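import Cfsg.Agent.Lib.Perm.Trans.UnitFive.Pauli.Ctx

/-!
# The frame over the field of sixteen elements

In characteristic two the parity is a unipotent element of rank two.
-/

set_option autoImplicit false
set_option linter.all false

namespace CfsgLib.Perm.Trans.UnitFive.Pauli.Four

open scoped Matrix
open Matrix CfsgLib.Perm.Trans.FiveDim.Pauli CfsgLib.Perm.Trans.UnitFive.Pauli

/-- a primitive fifth root of unity in characteristic two -/
structure Four (F : Type*) [Field F] where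
  μ : F
  eq : μ ^ 4 + μ ^ 3 + μ ^ 2 + μ + 1 = 0
  two : (2 : F) = 0

variable {F : Type*} [Field F] (ν : Four F)

local notation "M2" => Matrix (Fin 2) (Fin 2) F
local notation "M5" => Matrix (Fin 5) (Fin 5) F
local notation "G5" => GL (Fin 5) F

theorem Four.pow5 : ν.μ ^ 5 = 1 := by linear_combination (ν.μ - 1) * ν.eq

include ν in
theorem Four.five : (5 : F) ≠ 0 := fun h => one_ne_zero (α := F) (by linear_combination h - 2 * ν.two)

theorem Four.ne_zero : ν.μ ≠ 0 := fun h => by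
  have := ν.eq
  simp [h] at this

theorem Four.ne_one : ν.μ ≠ 1 := fun h => ν.five (by
  have := ν.eq
  rw [h] at this
  linear_combination this)

theorem Four.pow_ne_one {k : ℕ} (hk : k % 5 ≠ 0) : ν.μ ^ k ≠ 1 := fun h => ν.ne_one (by
  have h' : ν.μ ^ (k % 5) = 1 := by rw [← h]; exact (pow_eq_pow_mod k ν.pow5).symm
  have := Nat.mod_lt k (show 5 > 0 by norm_num)
  interval_cases k % 5
  · exact absurd rfl hk
  · simpa using h'
  · linear_combination ν.pow5 - (ν.μ ^ 2 + 1) * ν.μ * h'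
  · linear_combination -ν.pow5 * ν.μ + (ν.μ ^ 3 + 1) * h'
  · linear_combination ν.pow5 - ν.μ * h')

include ν in
theorem Four.neg_eq (x : F) : -x = x := by linear_combination (-x) * ν.two

include ν in
theorem Four.add_self (x : F) : x + x = 0 := by linear_combination x * ν.two

/-- a Gauss period -/
def Four.γ1 : F := ν.μ + ν.μ ^ 4

/-- the other Gauss period -/
def Four.γ2 : F := ν.μ ^ 2 + ν.μ ^ 3

theorem Four.γ_add : ν.γ1 + ν.γ2 = 1 := by
  simp only [Four.γ1, Four.γ2]; linear_combination ν.eq - ν.two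

theorem Four.γ_mul : ν.γ1 * ν.γ2 = 1 := by
  simp only [Four.γ1, Four.γ2]; linear_combination (ν.μ ^ 3 - ν.μ + 1) * ν.eq - ν.two

theorem Four.γ1_sq : ν.γ1 * ν.γ1 = ν.γ2 := by
  linear_combination ν.γ1 * ν.γ_add - ν.γ_mul + ν.γ_add - ν.γ2 * ν.two

theorem Four.γ2_sq : ν.γ2 * ν.γ2 = ν.γ1 := by
  linear_combination ν.γ2 * ν.γ_add - ν.γ_mul + ν.γ_add - ν.γ1 * ν.two

theorem Four.γ1_ne : ν.γ1 ≠ 0 ∧ ν.γ1 ≠ 1 := by
  refine ⟨fun e => one_ne_zero (α := F) ?_, fun e => one_ne_zero (α := F) ?_⟩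
  · rw [← ν.γ_mul, e, zero_mul]
  · linear_combination -ν.γ_mul + ν.γ2 * e + ν.γ_add - e

theorem Four.γ2_ne : ν.γ2 ≠ 0 ∧ ν.γ2 ≠ 1 := by
  refine ⟨fun e => one_ne_zero (α := F) ?_, fun e => one_ne_zero (α := F) ?_⟩
  · rw [← ν.γ_mul, e, mul_zero]
  · linear_combination -ν.γ_mul + ν.γ1 * e + ν.γ_add - e

/-- the Fourier matrix -/
def pm : M5 :=
  !![1, 1, 1, 1, 1;
    1, ν.μ, ν.μ ^ 2, ν.μ ^ 3, ν.μ ^ 4;
    1, ν.μ ^ 2, ν.μ ^ 4, ν.μ, ν.μ ^ 3;
    1, ν.μ ^ 3, ν.μ, ν.μ ^ 4, ν.μ ^ 2;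
    1, ν.μ ^ 4, ν.μ ^ 3, ν.μ ^ 2, ν.μ]

theorem pm_sq : pm ν * pm ν = (tm : M5) := by
  have h := ν.eq
  have h2 := ν.two
  ext i j
  fin_cases i <;> fin_cases j <;> simp [pm, tm, Matrix.mul_apply, Fin.sum_univ_five] <;> grind

theorem wm_sq' : (wm : M5) * wm = tm := wm_sq

/-- `D` -/
def gD : G5 := ⟨dm ν.μ, dm (ν.μ ^ 4),
  by rw [dm_mul, ← pow_succ', ν.pow5, dm_one], by rw [dm_mul, ← pow_succ, ν.pow5, dm_one]⟩

/-- `Q` -/
def gQ : G5 := ⟨qd ν.μ, qd (ν.μ ^ 4),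
  by rw [qd_mul, ← pow_succ', ν.pow5, qd_one], by rw [qd_mul, ← pow_succ, ν.pow5, qd_one]⟩

/-- `S` -/
def gS : G5 := ⟨sm, smᵀ,
  by ext i j; fin_cases i <;> fin_cases j <;> simp [sm, Matrix.mul_apply, Fin.sum_univ_five],
  by ext i j; fin_cases i <;> fin_cases j <;> simp [sm, Matrix.mul_apply, Fin.sum_univ_five]⟩

/-- `W` -/
def gW : G5 := ⟨wm, tm * wm,
  by rw [show (tm : M5) * wm = wm * tm by rw [← wm_sq, mul_assoc], ← mul_assoc, wm_sq, tm_sq],
  by rw [mul_assoc, wm_sq, tm_sq]⟩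

/-- `P` -/
def gP : G5 := ⟨pm ν, tm * pm ν,
  by rw [show (tm : M5) * pm ν = pm ν * tm by rw [← pm_sq ν, mul_assoc], ← mul_assoc, pm_sq ν, tm_sq],
  by rw [mul_assoc, pm_sq ν, tm_sq]⟩

/-- `T` -/
def gT : G5 := ⟨tm, tm, tm_sq, tm_sq⟩

theorem val_gD : (gD ν : M5) = dm ν.μ := rfl
theorem val_gQ : (gQ ν : M5) = qd ν.μ := rfl
theorem val_gS : ((gS : G5) : M5) = sm := rfl
theorem val_gW : ((gW : G5) : M5) = wm := rfl
theorem val_gP : (gP ν : M5) = pm ν := rfl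
theorem val_gT : ((gT : G5) : M5) = tm := rfl

theorem gW_sq : gW * gW = (gT : G5) := Units.ext (by rw [Units.val_mul, val_gW, val_gT, wm_sq])

theorem gP_sq : gP ν * gP ν = (gT : G5) := Units.ext (by rw [Units.val_mul, val_gP, val_gT, pm_sq])

theorem gT_sq : gT * gT = (1 : G5) := Units.ext (by rw [Units.val_mul, val_gT, tm_sq, Units.val_one])

/-- overgroups of the normaliser of the frame, `q = 4` -/
structure Ctx [Fintype F] (ν : Four F) (M : Subgroup G5) : Prop where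
  qcase : QCase F 4
  le : M ≤ suG F 4
  ne : M ≠ suG F 4
  memD : gD ν ∈ M
  memS : gS ∈ M
  memQ : gQ ν ∈ M
  memW : gW ∈ M
  memP : gP ν ∈ M

variable {ν} {M : Subgroup (GL (Fin 5) F)}

/-- the centraliser of the phase -/
def Cq (ν : Four F) (M : Subgroup G5) : Subgroup G5 := M ⊓ Subgroup.centralizer {gQ ν}

theorem mem_Cq {g : G5} : g ∈ Cq ν M ↔ g ∈ M ∧ g * gQ ν = gQ ν * g := by
  rw [Cq, Subgroup.mem_inf, Subgroup.mem_centralizer_singleton_iff]

theorem blocked_of_comm {g : M5} (h : g * qd ν.μ = qd ν.μ * g) : Blocked g := by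
  have hk : ∀ i j : Fin 5, ν.μ ^ (![0, 1, 4, 4, 1] i : ℕ) ≠ ν.μ ^ (![0, 1, 4, 4, 1] j : ℕ) → g i j = 0 := fun i j hne => by
    have e := congrFun (congrFun h i) j
    rw [qd, Matrix.mul_diagonal, Matrix.diagonal_mul] at e
    have hv : ∀ l : Fin 5, ![1, ν.μ, ν.μ ^ 4, ν.μ ^ 4, ν.μ] l = ν.μ ^ (![0, 1, 4, 4, 1] l : ℕ) := fun l => by
      fin_cases l <;> simp
    rw [hv, hv] at e
    exact (mul_eq_zero.1 (show g i j * (ν.μ ^ (![0, 1, 4, 4, 1] j : ℕ) - ν.μ ^ (![0, 1, 4, 4, 1] i : ℕ)) = 0 by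
      linear_combination e)).resolve_right (sub_ne_zero.2 hne.symm)
  have n1 : ν.μ ^ 1 ≠ ν.μ ^ 0 := by simpa using ν.ne_one
  have n4 : ν.μ ^ 4 ≠ ν.μ ^ 0 := by simpa using ν.pow_ne_one (k := 4) (by norm_num)
  have n3 : ν.μ ^ 4 ≠ ν.μ ^ 1 := fun e => ν.pow_ne_one (k := 3) (by norm_num)
    (mul_right_cancel₀ ν.ne_zero (by linear_combination e))
  exact ⟨hk _ _ n1.symm, hk _ _ n4.symm, hk _ _ n4.symm, hk _ _ n1.symm, hk _ _ n1, hk _ _ n4, hk _ _ n4,
    hk _ _ n1, hk _ _ n3.symm, hk _ _ n3.symm, hk _ _ n3.symm, hk _ _ n3.symm, hk _ _ n3, hk _ _ n3,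
    hk _ _ n3, hk _ _ n3⟩

theorem blocked_Cq (g : Cq ν M) : Blocked ((g : G5) : M5) :=
  blocked_of_comm (ν := ν) (by simpa [val_gQ] using congrArg Units.val (mem_Cq.1 g.2).2)

/-- the first pair -/
def pr1 (ν : Four F) (M : Subgroup G5) : Cq ν M →* GL (Fin 2) F :=
  MonoidHom.toHomUnits
    { toFun := fun g => p1 ((g : G5) : M5)
      map_one' := by ext i j; fin_cases i <;> fin_cases j <;> simp [p1]
      map_mul' := fun g h => by rw [Subgroup.coe_mul, Units.val_mul]; exact (p_mul _ (blocked_Cq h)).1 }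

/-- the second pair -/
def pr2 (ν : Four F) (M : Subgroup G5) : Cq ν M →* GL (Fin 2) F :=
  MonoidHom.toHomUnits
    { toFun := fun g => p2 ((g : G5) : M5)
      map_one' := by ext i j; fin_cases i <;> fin_cases j <;> simp [p2]
      map_mul' := fun g h => by rw [Subgroup.coe_mul, Units.val_mul]; exact (p_mul _ (blocked_Cq h)).2.1 }

/-- the fixed coordinate -/
def pr0 (ν : Four F) (M : Subgroup G5) : Cq ν M →* Fˣ :=
  MonoidHom.toHomUnits
    { toFun := fun g => ((g : G5) : M5) 0 0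
      map_one' := by simp
      map_mul' := fun g h => by rw [Subgroup.coe_mul, Units.val_mul]; exact (p_mul _ (blocked_Cq h)).2.2 }

theorem val_pr1 (g : Cq ν M) : (pr1 ν M g : M2) = p1 ((g : G5) : M5) := rfl
theorem val_pr2 (g : Cq ν M) : (pr2 ν M g : M2) = p2 ((g : G5) : M5) := rfl
theorem val_pr0 (g : Cq ν M) : (pr0 ν M g : F) = ((g : G5) : M5) 0 0 := rfl

/-- the centraliser of the parity -/
def Dt (M : Subgroup G5) : Subgroup G5 := M ⊓ Subgroup.centralizer {gT}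

theorem mem_Dt {g : G5} : g ∈ Dt M ↔ g ∈ M ∧ g * gT = gT * g := by
  rw [Dt, Subgroup.mem_inf, Subgroup.mem_centralizer_singleton_iff]

theorem sym_Dt (g : Dt M) : Sym ((g : G5) : M5) :=
  sym_of_comm (by simpa [val_gT] using congrArg Units.val (mem_Dt.1 g.2).2)

theorem mem_Dt_of_sym {g : G5} (hg : g ∈ M) (hs : Sym (g : M5)) : g ∈ Dt M :=
  mem_Dt.2 ⟨hg, Units.ext (by rw [Units.val_mul, Units.val_mul, val_gT, comm_of_sym hs])⟩

/-- the action on the image of `T - 1` -/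
def prB (M : Subgroup G5) : Dt M →* GL (Fin 2) F :=
  MonoidHom.toHomUnits
    { toFun := fun g => Bm ((g : G5) : M5)
      map_one' := by rw [OneMemClass.coe_one, Units.val_one, Bm_one]
      map_mul' := fun g h => by rw [Subgroup.coe_mul, Units.val_mul, Bm_mul _ (sym_Dt h)] }

theorem val_prB (g : Dt M) : (prB M g : M2) = Bm ((g : G5) : M5) := rfl

variable [Fintype F]

theorem pr1_mem (h : Ctx ν M) (g : Cq ν M) : pr1 ν M g ∈ Cfsg.GU 2 F 4 := by
  obtain ⟨C⟩ := CfsgLib.Perm.Trans.Unit.ctx_of_card h.qcase.1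
  obtain ⟨a1, a2, a3, a4, a5, a6, a7, a8, a9, b1, b2, b3, b4, b5, b6, b7⟩ := blocked_Cq g
  have hE := unit_entry C (g := (g : G5)) (h.le (mem_Cq.1 g.2).1).1
  refine C.mem_gu_iff_mat.2 ?_
  ext i j
  rw [val_pr1, Matrix.mul_apply, Fin.sum_univ_two]
  have e11 := hE 1 1
  have e14 := hE 1 4
  have e41 := hE 4 1
  have e44 := hE 4 4
  simp [Fin.sum_univ_five, a1, a4, a5, a8, a9, b1, b2, b3, b4, b5, b6, b7] at e11 e14 e41 e44
  fin_cases i <;> fin_cases j <;> simp [p1]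
  · exact e11
  · exact e14
  · exact e41
  · exact e44

theorem pr2_mem (h : Ctx ν M) (g : Cq ν M) : pr2 ν M g ∈ Cfsg.GU 2 F 4 := by
  obtain ⟨C⟩ := CfsgLib.Perm.Trans.Unit.ctx_of_card h.qcase.1
  obtain ⟨a1, a2, a3, a4, a5, a6, a7, a8, a9, b1, b2, b3, b4, b5, b6, b7⟩ := blocked_Cq g
  have hE := unit_entry C (g := (g : G5)) (h.le (mem_Cq.1 g.2).1).1
  refine C.mem_gu_iff_mat.2 ?_
  ext i j
  rw [val_pr2, Matrix.mul_apply, Fin.sum_univ_two]
  have e11 := hE 2 2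
  have e14 := hE 2 3
  have e41 := hE 3 2
  have e44 := hE 3 3
  simp [Fin.sum_univ_five, a2, a3, a6, a7, a9, b1, b2, b3, b4, b5, b6, b7] at e11 e14 e41 e44
  fin_cases i <;> fin_cases j <;> simp [p2]
  · exact e11
  · exact e14
  · exact e41
  · exact e44

theorem prB_mem (h : Ctx ν M) (g : Dt M) : prB M g ∈ Cfsg.GU 2 F 4 := by
  obtain ⟨C⟩ := CfsgLib.Perm.Trans.Unit.ctx_of_card h.qcase.1
  obtain ⟨a, b, c, d, e, f, k, l, m, n, o, r⟩ := (sym_Dt g).vals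
  have hE := unit_entry C (g := (g : G5)) (h.le (mem_Dt.1 g.2).1).1
  have e11 := hE 1 1
  have e14 := hE 1 4
  have e12 := hE 1 2
  have e13 := hE 1 3
  have e21 := hE 2 1
  have e24 := hE 2 4
  have e22 := hE 2 2
  have e23 := hE 2 3
  simp [Fin.sum_univ_five, a, b, c, d, e, f, k, l, m, n, o, r] at e11 e14 e12 e13 e21 e24 e22 e23
  refine C.mem_gu_iff_mat.2 ?_
  ext i j
  rw [val_prB, Matrix.mul_apply, Fin.sum_univ_two]
  fin_cases i <;> fin_cases j <;> simp [Bm, map_sub]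
  · linear_combination e11 - e14
  · linear_combination e12 - e13
  · linear_combination e21 - e24
  · linear_combination e22 - e23

theorem Ctx.det (h : Ctx ν M) : ∀ g ∈ M, (g : M5).det = 1 := fun g hg => by
  have h1 : Matrix.GeneralLinearGroup.det g = 1 := (h.le hg).2
  rw [← Matrix.GeneralLinearGroup.val_det_apply, h1, Units.val_one]

theorem Ctx.memT (h : Ctx ν M) : gT ∈ M := gW_sq (F := F) ▸ mul_mem h.memW h.memW

/-- fifth roots of unity are conjugated to their inverses -/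
theorem bar_root (C : CfsgLib.SU.UCtx F 4) {x : F} : C.bar x = x ^ 4 := C.bar_eq x

end CfsgLib.Perm.Trans.UnitFive.Pauli.Four
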