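import Cfsg.Agent.Lib.Perm.Trans.UnitFive.Pauli.Four.Parity
import Cfsg.Agent.Lib.Perm.Trans.UnitFive.Pauli.Max
import Cfsg.Agent.Lib.Perm.Trans.FiveDim.Pauli.Central

/-!
# The normaliser of the frame group is maximal in `SU₅(4)`
-/

set_option autoImplicit false
set_option linter.all false

namespace CfsgLib.Perm.Trans.UnitFive.Pauli.Four

open scoped Matrix
open Matrix Cfsg.Geo CfsgLib.Perm.Trans.FiveDim.Pauli CfsgLib.Perm.Trans.UnitFive.Pauli

variable {F : Type*} [Field F]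

local notation "M5" => Matrix (Fin 5) (Fin 5) F
local notation "G5" => GL (Fin 5) F

variable (ν : Four F)

/-- the central scalar -/
def gZ : G5 := Matrix.GeneralLinearGroup.mkOfDetNeZero (ν.μ • (1 : Matrix (Fin 5) (Fin 5) F))
  (by rw [Matrix.det_smul, Matrix.det_one, mul_one, Fintype.card_fin, ν.pow5]; exact one_ne_zero)

theorem val_gZ : (gZ ν : M5) = ν.μ • (1 : Matrix (Fin 5) (Fin 5) F) := rfl

theorem val_gZ_pow (k : ℕ) : ((gZ ν ^ k : G5) : M5) = ν.μ ^ k • (1 : Matrix (Fin 5) (Fin 5) F) := by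
  rw [Units.val_pow_eq_pow_val, val_gZ, smul_pow, one_pow]

theorem gZ_mem_center : gZ ν ∈ Subgroup.center G5 :=
  Subgroup.mem_center_iff.2 fun w => Units.ext (by simp [val_gZ])

theorem gZ_pow_five : gZ ν ^ 5 = 1 :=
  Units.ext (by rw [val_gZ_pow, ν.pow5, one_smul, Units.val_one])

theorem val_gD_pow (k : ℕ) : ((gD ν ^ k : G5) : M5) = dm (ν.μ ^ k) := by
  induction k with
  | zero => simp [dm_one]
  | succ n ih => rw [pow_succ, Units.val_mul, ih, val_gD, dm_mul, ← pow_succ]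

theorem gD_pow_five : gD ν ^ 5 = 1 := Units.ext (by rw [val_gD_pow, ν.pow5, dm_one, Units.val_one])

theorem gS_pow_five' : (gS : G5) ^ 5 = 1 :=
  Units.ext (by rw [Units.val_pow_eq_pow_val, val_gS, sm_pow_five, Units.val_one])

theorem gD_mul_gS : gD ν * gS = gZ ν * (gS * gD ν) := Units.ext (by
  rw [Units.val_mul, Units.val_mul, Units.val_mul, val_gD, val_gS, val_gZ, Matrix.smul_mul, one_mul]
  ext i j
  fin_cases i <;> fin_cases j <;>
    simp [dm, sm, Matrix.mul_apply, Matrix.vecMul, dotProduct, Matrix.diagonal_apply, Fin.sum_univ_five] <;>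
    grind [ν.pow5])

theorem scalar_of_commute {g : M5} (hD : g * dm ν.μ = dm ν.μ * g) (hS : g * sm = sm * g) :
    g = g 0 0 • 1 := by
  have hk : ∀ i j : Fin 5, i ≠ j → g i j = 0 := fun i j hij => by
    have h := congrFun (congrFun hD i) j
    rw [dm, Matrix.mul_diagonal, Matrix.diagonal_mul] at h
    have e : ∀ l : Fin 5, ![1, ν.μ, ν.μ ^ 2, ν.μ ^ 3, ν.μ ^ 4] l = ν.μ ^ (l : ℕ) := fun l => by fin_cases l <;> simp
    rw [e, e] at h
    refine (mul_eq_zero.1 (show g i j * (ν.μ ^ (j : ℕ) - ν.μ ^ (i : ℕ)) = 0 by linear_combination h)).resolve_right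
      (sub_ne_zero.2 fun e' => ?_)
    refine ν.pow_ne_one (k := (j : ℕ) + (5 - (i : ℕ))) (by have := i.isLt; have := j.isLt; omega) ?_
    rw [pow_add, e', ← pow_add, Nat.add_sub_cancel' i.isLt.le, ν.pow5]
  have e1 := congrFun (congrFun hS 1) 0
  have e2 := congrFun (congrFun hS 2) 1
  have e3 := congrFun (congrFun hS 3) 2
  have e4 := congrFun (congrFun hS 4) 3
  simp [sm, Matrix.mul_apply, Fin.sum_univ_five] at e1 e2 e3 e4
  ext i j
  fin_cases i <;> fin_cases j <;> simp [hk, e1, e2, e3, e4]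

include ν in
theorem mem_center_iff_scalar {g : G5} : g ∈ Subgroup.center G5 ↔ ∃ l : F, (g : M5) = l • 1 := by
  constructor
  · intro h
    exact ⟨_, scalar_of_commute ν (congrArg Units.val (Subgroup.mem_center_iff.1 h (gD ν)).symm)
      (congrArg Units.val (Subgroup.mem_center_iff.1 h gS).symm)⟩
  · rintro ⟨l, hl⟩
    refine Subgroup.mem_center_iff.2 fun w => Units.ext ?_
    rw [Units.val_mul, Units.val_mul, hl]
    simp

/-- a central element of determinant one is a power of `μ` -/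
theorem eq_gZ_pow {z : G5} (hz : z ∈ Subgroup.center G5) (hdet : (z : M5).det = 1) :
    ∃ k : ℕ, z = gZ ν ^ k := by
  obtain ⟨l, hl⟩ := (mem_center_iff_scalar ν).1 hz
  rw [hl, Matrix.det_smul, Matrix.det_one, mul_one, Fintype.card_fin] at hdet
  have hprim : IsPrimitiveRoot ν.μ 5 := by
    haveI : Fact (Nat.Prime 5) := ⟨by norm_num⟩
    rw [← orderOf_eq_prime ν.pow5 ν.ne_one]
    exact IsPrimitiveRoot.orderOf _
  obtain ⟨k, -, hk⟩ := hprim.eq_pow_of_pow_eq_one hdet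
  exact ⟨k, Units.ext (by rw [val_gZ_pow, hk, ← hl])⟩

/-- the group of the frame -/
def gR : Subgroup G5 := Subgroup.closure {gD ν, gS}

theorem gD_mem : gD ν ∈ gR ν := Subgroup.subset_closure (by simp)

theorem gS_mem : gS ∈ gR ν := Subgroup.subset_closure (by simp)

theorem gZ_mem : gZ ν ∈ gR ν := by
  rw [← mul_inv_cancel_right (gZ ν) (gS * gD ν), ← gD_mul_gS]
  exact mul_mem (mul_mem (gD_mem ν) (gS_mem ν)) (inv_mem (mul_mem (gS_mem ν) (gD_mem ν)))

/-- elements of determinant one commuting with `D` and `S` modulo scalars lie in the group of the frame -/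
theorem mem_gR_of_comm {g : G5} (hg : (g : M5).det = 1)
    (hgd : g * gD ν * g⁻¹ * (gD ν)⁻¹ ∈ Subgroup.center G5)
    (hgs : g * gS * g⁻¹ * (gS : G5)⁻¹ ∈ Subgroup.center G5) : g ∈ gR ν := by
  have key : ∀ r : G5, g * r * g⁻¹ * r⁻¹ ∈ Subgroup.center G5 →
      ∃ k : ℕ, g * r * g⁻¹ = gZ ν ^ k * r := fun r hz => by
    obtain ⟨k, hk⟩ := eq_gZ_pow ν hz (by
      have h1 : Matrix.GeneralLinearGroup.det (g * r * g⁻¹ * r⁻¹) = 1 := by
        simp [map_mul, map_inv, mul_comm, mul_left_comm]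
      rw [← Matrix.GeneralLinearGroup.val_det_apply, h1, Units.val_one])
    exact ⟨k, by rw [← hk, inv_mul_cancel_right]⟩
  obtain ⟨a, ha⟩ := key _ hgd
  obtain ⟨b, hb⟩ := key _ hgs
  have hcZ : ∀ (k : ℕ) (w : G5), gZ ν ^ k * w = w * gZ ν ^ k := fun k w =>
    (Subgroup.mem_center_iff.1 (Subgroup.pow_mem _ (gZ_mem_center ν) k) w).symm
  have hDS : gD ν * gS * (gD ν)⁻¹ = gZ ν * gS := by rw [gD_mul_gS, ← mul_assoc, mul_inv_cancel_right]
  have hSD : gS * gD ν * (gS : G5)⁻¹ = gZ ν ^ 4 * gD ν := by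
    rw [mul_inv_eq_iff_eq_mul, mul_assoc, gD_mul_gS, ← mul_assoc, ← pow_succ, gZ_pow_five, one_mul]
  have hDSn : ∀ n : ℕ, gD ν ^ n * gS * (gD ν ^ n)⁻¹ = gZ ν ^ n * gS := fun n => by
    induction n with
    | zero => simp
    | succ n ih =>
      rw [pow_succ' (gD ν), _root_.mul_inv_rev, show gD ν * gD ν ^ n * gS * ((gD ν ^ n)⁻¹ * (gD ν)⁻¹) =
        gD ν * (gD ν ^ n * gS * (gD ν ^ n)⁻¹) * (gD ν)⁻¹ by group, ih, ← mul_assoc, ← hcZ,
        mul_assoc (gZ ν ^ n), mul_assoc (gZ ν ^ n), hDS, ← mul_assoc, ← pow_succ]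
  have hSDn : ∀ n : ℕ, gS ^ n * gD ν * ((gS : G5) ^ n)⁻¹ = gZ ν ^ (4 * n) * gD ν := fun n => by
    induction n with
    | zero => simp
    | succ n ih =>
      rw [pow_succ' (gS : G5), _root_.mul_inv_rev, show gS * gS ^ n * gD ν * (((gS : G5) ^ n)⁻¹ * (gS : G5)⁻¹) =
        gS * (gS ^ n * gD ν * ((gS : G5) ^ n)⁻¹) * (gS : G5)⁻¹ by group, ih, ← mul_assoc, ← hcZ,
        mul_assoc (gZ ν ^ (4 * n)), mul_assoc (gZ ν ^ (4 * n)), hSD, ← mul_assoc, ← pow_add, Nat.mul_succ]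
  obtain ⟨m, hm⟩ : ∃ m, m = gS ^ (4 * a) * gD ν ^ b := ⟨_, rfl⟩
  have hmR : m ∈ gR ν := hm ▸ mul_mem (pow_mem (gS_mem ν) _) (pow_mem (gD_mem ν) _)
  have hmD : m * gD ν * m⁻¹ = gZ ν ^ a * gD ν := by
    rw [show m * gD ν * m⁻¹ = gS ^ (4 * a) * gD ν * ((gS : G5) ^ (4 * a))⁻¹ by rw [hm]; group, hSDn,
      pow_eq_pow_mod (4 * (4 * a)) (gZ_pow_five ν), pow_eq_pow_mod a (gZ_pow_five ν)]
    congr 2
    omega
  have hmS : m * gS * m⁻¹ = gZ ν ^ b * gS := by
    rw [show m * gS * m⁻¹ = gS ^ (4 * a) * (gD ν ^ b * gS * (gD ν ^ b)⁻¹) * ((gS : G5) ^ (4 * a))⁻¹ by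
      rw [hm]; group, hDSn, ← mul_assoc, ← hcZ]
    group
  have hcomm : ∀ r : G5, g * r * g⁻¹ = m * r * m⁻¹ → Commute (m⁻¹ * g) r := fun r h => by
    have h' : m⁻¹ * g * r * (m⁻¹ * g)⁻¹ = r := by
      rw [show m⁻¹ * g * r * (m⁻¹ * g)⁻¹ = m⁻¹ * (g * r * g⁻¹) * m by group, h]; group
    exact mul_inv_eq_iff_eq_mul.1 h'
  have hc : m⁻¹ * g ∈ Subgroup.center G5 := (mem_center_iff_scalar ν).2 ⟨_, scalar_of_commute ν
    (congrArg Units.val (hcomm _ (ha.trans hmD.symm)).eq) (congrArg Units.val (hcomm _ (hb.trans hmS.symm)).eq)⟩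
  have hmdet : ∀ {x : G5}, x ∈ gR ν → Matrix.GeneralLinearGroup.det x = 1 := fun {x} hx => by
    refine (Subgroup.closure_le (Matrix.GeneralLinearGroup.det : G5 →* Fˣ).ker).2 ?_ hx
    rintro _ (rfl | rfl)
    · exact Units.ext (by rw [Matrix.GeneralLinearGroup.val_det_apply, val_gD, det_dm ν.pow5, Units.val_one])
    · refine Units.ext ?_
      rw [Matrix.GeneralLinearGroup.val_det_apply, val_gS, Units.val_one]
      have e := congrArg Matrix.det (wm_mul_sm (F := F))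
      simp only [Matrix.det_mul] at e
      have hw : (wm : M5).det ≠ 0 := by
        rw [← val_gW (F := F)]
        exact ((Matrix.isUnit_iff_isUnit_det _).1 (Units.isUnit gW)).ne_zero
      have hs : (sm : M5).det ≠ 0 := by
        rw [← val_gS (F := F)]
        exact ((Matrix.isUnit_iff_isUnit_det _).1 (Units.isUnit gS)).ne_zero
      exact mul_right_cancel₀ (mul_ne_zero hw hs) (by linear_combination -e)
  obtain ⟨k, hk⟩ := eq_gZ_pow ν hc (by
    rw [← Matrix.GeneralLinearGroup.val_det_apply, map_mul, map_inv, hmdet hmR, inv_one, one_mul,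
      Matrix.GeneralLinearGroup.val_det_apply, hg])
  rw [← mul_inv_cancel_left m g, hk]
  exact mul_mem hmR (pow_mem (gZ_mem ν) _)

theorem gT_conj_gS' : gT * gS * gT = (gS : G5)⁻¹ := by
  refine eq_inv_of_mul_eq_one_left (Units.ext ?_)
  rw [Units.val_mul, Units.val_mul, Units.val_mul, val_gT, val_gS, Units.val_one]
  ext i j
  fin_cases i <;> fin_cases j <;> simp [tm, sm, Matrix.mul_apply, Fin.sum_univ_five]

theorem gT_conj_gD : gT * gD ν * gT = (gD ν)⁻¹ := by
  refine eq_inv_of_mul_eq_one_left (Units.ext ?_)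
  rw [Units.val_mul, Units.val_mul, Units.val_mul, val_gT, val_gD, Units.val_one]
  ext i j
  have h5 := ν.pow5
  fin_cases i <;> fin_cases j <;>
    simp [tm, dm, Matrix.mul_apply, Matrix.vecMul, dotProduct, Matrix.diagonal_apply, Fin.sum_univ_five] <;> grind

theorem gT_ne_one : (gT : G5) ≠ 1 := fun e => by
  have h := congrArg (fun g : G5 => (g : M5) 1 4) e
  simp [val_gT, tm] at h

variable [Fintype F] {ν} {M : Subgroup (GL (Fin 5) F)}

/-- a normal subgroup of odd order containing the frame -/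
theorem exists_odd_normal (h : Ctx ν M) : ∃ O : Subgroup G5, O ≤ M ∧ Odd (Nat.card O) ∧
    (∀ g ∈ M, ∀ x ∈ O, g * x * g⁻¹ ∈ O) ∧ gD ν ∈ O ∧ gS ∈ O := by
  classical
  haveI : Fact (Nat.Prime 2) := ⟨Nat.prime_two⟩
  obtain ⟨z, hz⟩ : ∃ z : M, z = ⟨gT, h.memT⟩ := ⟨_, rfl⟩
  have hT1 := gT_ne_one (F := F)
  have hz2 : orderOf z = 2 := orderOf_eq_prime (Subtype.ext (by simp [hz, pow_two, gT_sq]))
    (fun e => hT1 (by simpa [hz] using congrArg Subtype.val e))
  have hzP : IsPGroup 2 (Subgroup.zpowers z) :=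
    IsPGroup.of_card (n := 1) (by rw [Nat.card_zpowers, hz2, pow_one])
  obtain ⟨P, hP⟩ := hzP.exists_le_sylow
  have hzmem : z ∈ (P : Subgroup M) := hP (Subgroup.mem_zpowers z)
  have key : ∀ u : M, Commute u z → u * u = 1 → u = 1 ∨ u = z := fun u hu hu2 => by
    have hu' : (u : G5) ∈ Dt M := mem_Dt.2 ⟨u.2, by
      have := congrArg Subtype.val hu.eq
      simpa [hz] using this⟩
    rcases eq_one_or_parity h (s := ⟨u, hu'⟩) (Subtype.ext (congrArg Subtype.val hu2 :)) with e | e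
    · exact Or.inl (Subtype.ext (congrArg Subtype.val e :))
    · exact Or.inr (by rw [hz]; exact Subtype.ext e)
  haveI : Nontrivial (P : Subgroup M) :=
    ⟨⟨⟨z, hzmem⟩, 1, fun e => hT1 (by simpa [hz] using congrArg Subtype.val (congrArg Subtype.val e))⟩⟩
  haveI := P.isPGroup'.center_nontrivial
  have hzc : ∀ x ∈ (P : Subgroup M), Commute x z := by
    obtain ⟨u, hu⟩ : ∃ u : Subgroup.center (P : Subgroup M), orderOf u = 2 := by
      have h2 : IsPGroup 2 (Subgroup.center (P : Subgroup M)) := P.isPGroup'.to_subgroup _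
      obtain ⟨n, hn, hcard⟩ := h2.nontrivial_iff_card.1 inferInstance
      exact exists_prime_orderOf_dvd_card' 2 (hcard ▸ dvd_pow_self 2 (by omega))
    have hu2 : ((u : (P : Subgroup M)) : M) * ((u : (P : Subgroup M)) : M) = 1 := by
      have := congrArg (fun t : Subgroup.center (P : Subgroup M) => ((t : (P : Subgroup M)) : M))
        (show u * u = 1 by have h' := pow_orderOf_eq_one u; rw [hu, pow_two] at h'; exact h')
      simpa using this
    have huz : ((u : (P : Subgroup M)) : M) = z := by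
      refine (key _ ?_ hu2).resolve_left fun e => ?_
      · exact congrArg Subtype.val (Subgroup.mem_center_iff.1 u.2 ⟨z, hzmem⟩).symm
      · have : u = 1 := Subtype.ext (Subtype.ext e)
        rw [this, orderOf_one] at hu
        omega
    intro x hx
    rw [← huz]
    exact congrArg Subtype.val (Subgroup.mem_center_iff.1 u.2 ⟨x, hx⟩)
  have hO := CfsgLib.Invol.zcentral_of_unique_invol P hz2 (fun x hx hx2 =>
    (key x (hzc x hx) (by have h' := pow_orderOf_eq_one x; rw [hx2, pow_two] at h'; exact h')).resolve_left fun e => by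
      rw [e, orderOf_one] at hx2; omega)
  have hodd : Odd (Nat.card (Cfsg.pPrimeCore 2 M)) := by
    rw [Nat.odd_iff, ← Nat.two_dvd_ne_zero, ← Nat.prime_two.coprime_iff_not_dvd]
    exact (CfsgLib.Coprime.pPrimeCore_coprime Nat.prime_two).symm
  have hinv : ∀ r : G5, ∀ hr : r ∈ M, gT * r * gT = r⁻¹ → r ^ 5 = 1 →
      r ∈ (Cfsg.pPrimeCore 2 M).map M.subtype := fun r hr hT h5 => by
    refine ⟨⟨r, hr⟩, ?_, rfl⟩
    have e : (⟨r, hr⟩ : M) = (z * ⟨r, hr⟩ * z⁻¹ * (⟨r, hr⟩ : M)⁻¹) ^ 2 := Subtype.ext (by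
      have hzi : (gT : G5)⁻¹ = gT := inv_eq_of_mul_eq_one_right gT_sq
      simp [hz, hzi, hT, pow_two]
      rw [eq_comm, ← mul_inv_eq_one]
      simpa [← mul_assoc, ← _root_.mul_inv_rev, pow_succ] using congrArg (·⁻¹) h5)
    rw [e]
    exact pow_mem (hO ⟨r, hr⟩) 2
  refine ⟨(Cfsg.pPrimeCore 2 M).map M.subtype, Subgroup.map_subtype_le _, ?_, ?_, ?_, ?_⟩
  · rwa [Subgroup.card_map_of_injective M.subtype_injective]
  · rintro g hg _ ⟨k, hk, rfl⟩
    exact ⟨⟨g, hg⟩ * k * (⟨g, hg⟩ : M)⁻¹, Subgroup.Normal.conj_mem inferInstance k hk _, rfl⟩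
  · exact hinv _ h.memD (gT_conj_gD ν) (gD_pow_five ν)
  · exact hinv _ h.memS gT_conj_gS' gS_pow_five'

/-- overgroups of the normaliser normalise the frame -/
theorem Ctx.le_normalizer (h : Ctx ν M) : M ≤ Subgroup.normalizer (gR ν : Set G5) := by
  classical
  obtain ⟨O, hOM, hodd, hOn, hDO, hSO⟩ := exists_odd_normal h
  -- the parity has no fixed point modulo scalars
  have hfix : ∀ x ∈ O, gT * x * gT⁻¹ * x⁻¹ ∈ Subgroup.center G5 → x ∈ Subgroup.center G5 := by
    intro x hx hc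
    obtain ⟨l, hl⟩ := (mem_center_iff_scalar ν).1 hc
    have e : (tm : M5) * (x : M5) * tm = l • (x : M5) := by
      have e' : ((gT * x * gT : G5) : M5) = ((gT * x * gT⁻¹ * x⁻¹ : G5) : M5) * (x : M5) := by
        rw [← Units.val_mul, inv_mul_cancel_right,
          show (gT : G5)⁻¹ = gT from inv_eq_of_mul_eq_one_right gT_sq]
      rw [Units.val_mul, Units.val_mul, val_gT, hl, Matrix.smul_mul, one_mul] at e'
      exact e'
    have e2 : (x : M5) = (l * l) • (x : M5) := by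
      calc (x : M5) = tm * tm * (x : M5) * (tm * tm) := by rw [tm_sq, one_mul, mul_one]
        _ = tm * (tm * (x : M5) * tm) * tm := by simp only [mul_assoc]
        _ = (l * l) • (x : M5) := by rw [e, Matrix.mul_smul, Matrix.smul_mul, e, smul_smul]
    have hx0 : (x : M5) ≠ 0 := x.ne_zero
    have hl1 : l = 1 := by
      have h1 : l * l = 1 := (smul_left_injective F hx0 (e2.symm.trans (one_smul F _).symm) :)
      have h0 : (l + 1) * (l + 1) = 0 := by linear_combination h1 + (l + 1) * ν.two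
      linear_combination mul_self_eq_zero.1 h0 - ν.two
    rw [hl1, one_smul] at e
    have hxt : x ∈ Dt M := mem_Dt.2 ⟨hOM hx, Units.ext (by
      rw [Units.val_mul, Units.val_mul, val_gT]
      conv_lhs => rw [← e, mul_assoc, mul_assoc, tm_sq, mul_one])⟩
    haveI : (O.subgroupOf (Dt M)).Normal :=
      ⟨fun n hn g => Subgroup.mem_subgroupOf.2 (hOn _ (mem_Dt.1 g.2).1 _ (Subgroup.mem_subgroupOf.1 hn))⟩
    have hN : Odd (Nat.card (O.subgroupOf (Dt M))) :=
      hodd.of_dvd_nat (Subgroup.card_comap_dvd_of_injective O (Dt M).subtype (Dt M).subtype_injective)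
    exact (mem_center_iff_scalar ν).2 (scalar_of_odd h hN (n := ⟨x, hxt⟩) (Subgroup.mem_subgroupOf.2 hx))
  obtain ⟨π, hπe⟩ : ∃ π, π = QuotientGroup.mk' (Subgroup.center G5) := ⟨_, rfl⟩
  have hπ : ∀ g : G5, π g = 1 ↔ g ∈ Subgroup.center G5 := fun g => hπe ▸ QuotientGroup.eq_one_iff g
  let f : O.map π →* O.map π :=
    { toFun := fun u => ⟨π gT * u * (π gT)⁻¹, by
        obtain ⟨x, hx, e⟩ := u.2
        exact ⟨gT * x * gT⁻¹, hOn _ h.memT _ hx, by rw [map_mul, map_mul, map_inv, e]⟩⟩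
      map_one' := by ext; simp
      map_mul' := fun a b => Subtype.ext (by simp only [Subgroup.coe_mul]; group) }
  have hfp : MonoidHom.FixedPointFree f := fun u hu => by
    obtain ⟨x, hx, e⟩ := u.2
    have e' : π gT * (u : G5 ⧸ Subgroup.center G5) * (π gT)⁻¹ = u := congrArg Subtype.val hu
    have hc := hfix x hx ((hπ _).1 (by rw [map_mul, map_mul, map_mul, map_inv, map_inv, e, e', mul_inv_cancel]))
    exact Subtype.ext (e.symm.trans ((hπ x).2 hc))
  have hinv : Function.Involutive f := fun u => Subtype.ext (by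
    show π gT * (π gT * (u : G5 ⧸ Subgroup.center G5) * (π gT)⁻¹) * (π gT)⁻¹ = u
    rw [show π gT * (π gT * (u : G5 ⧸ Subgroup.center G5) * (π gT)⁻¹) * (π gT)⁻¹ =
      π gT * π gT * u * (π gT * π gT)⁻¹ by group, ← map_mul, gT_sq, map_one]
    simp)
  have hab : ∀ x ∈ O, ∀ y ∈ O, x * y * x⁻¹ * y⁻¹ ∈ Subgroup.center G5 := fun x hx y hy => (hπ _).1 (by
    have e := congrArg Subtype.val
      (MonoidHom.FixedPointFree.commute_all_of_involutive hfp hinv ⟨π x, x, hx, rfl⟩ ⟨π y, y, hy, rfl⟩).eq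
    rw [Subgroup.coe_mul, Subgroup.coe_mul] at e
    rw [map_mul, map_mul, map_mul, map_inv, map_inv, e, mul_inv_cancel_right, mul_inv_cancel])
  intro g hg
  have hgen : ∀ r ∈ O, g * r * g⁻¹ ∈ gR ν := fun r hr => by
    have hw := hOn g hg r hr
    exact mem_gR_of_comm ν (h.det _ (hOM hw)) (hab _ hw _ hDO) (hab _ hw _ hSO)
  exact CfsgLib.Perm.Elusive.mem_normalizer_of_generators (a := gD ν) (b := gS) rfl (hgen _ hDO) (hgen _ hSO)

/-- the generators are unitary of determinant one -/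
theorem gens_mem_suG (hq : QCase F 4) :
    gD ν ∈ suG F 4 ∧ gS ∈ suG F 4 ∧ gQ ν ∈ suG F 4 ∧ gW ∈ suG F 4 ∧ gP ν ∈ suG F 4 := by
  obtain ⟨C⟩ := CfsgLib.Perm.Trans.Unit.ctx_of_card hq.1
  have hμ : C.bar ν.μ = ν.μ ^ 4 := hq.pow_five_bar C ν.pow5
  have hμ5 := ν.pow5
  have hdet : ∀ g : G5, g ∈ Cfsg.GU 5 F 4 → g ^ 4 = 1 → (g : M5).det = 1 := fun g hg h4 => by
    have h1 : (g : M5).det * C.bar (g : M5).det = 1 := by
      have h := congrArg Matrix.det (C.mem_gu_iff_mat.1 hg)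
      rw [Matrix.det_mul, Matrix.det_transpose, Matrix.det_one,
        show (g : M5).map C.bar = C.bar.toRingHom.mapMatrix (g : M5) from rfl, ← RingHom.map_det] at h
      exact h
    have h5 := norm_one_pow_five C h1
    have h4' : (g : M5).det ^ 4 = 1 := by
      rw [← Matrix.det_pow, ← Units.val_pow_eq_pow_val, h4, Units.val_one, Matrix.det_one]
    rw [pow_succ, h4', one_mul] at h5
    exact h5
  have hdiag : ∀ (g : G5) (d : Fin 5 → F), (g : M5) = Matrix.diagonal d → (∀ i, d i * C.bar (d i) = 1) →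
      g ∈ Cfsg.GU 5 F 4 := fun g d hg hd => C.mem_gu_iff_mat.2 (by
    rw [hg, Matrix.diagonal_transpose, Matrix.diagonal_map (map_zero _), Matrix.diagonal_mul_diagonal,
      ← Matrix.diagonal_one]
    congr 1
    funext i
    exact hd i)
  have hW : gW ∈ Cfsg.GU 5 F 4 := C.mem_gu_iff_mat.2 (by
    rw [show (gW : G5).1 = (wm : M5) from rfl]
    ext i j
    fin_cases i <;> fin_cases j <;> simp [wm, Matrix.mul_apply, Fin.sum_univ_five])
  have hP : gP ν ∈ Cfsg.GU 5 F 4 := C.mem_gu_iff_mat.2 (by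
    rw [show (gP ν).1 = pm ν from rfl]
    have h2 : (pm ν)ᵀ = pm ν := by
      ext i j
      fin_cases i <;> fin_cases j <;> simp [pm]
    have h1 : (pm ν).map C.bar = pm ν * tm := by
      ext i j
      rw [mul_tm_apply]
      fin_cases i <;> fin_cases j <;> simp [pm, map_pow, hμ] <;> grind
    rw [h2, h1, ← mul_assoc, pm_sq, tm_sq])
  have hS : gS ∈ Cfsg.GU 5 F 4 := C.mem_gu_iff_mat.2 (by
    rw [show (gS : G5).1 = (sm : M5) from rfl]
    ext i j
    fin_cases i <;> fin_cases j <;> simp [sm, Matrix.mul_apply, Fin.sum_univ_five])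
  refine ⟨mem_suG_iff.2 ⟨hdiag _ _ (val_gD ν) fun i => ?_, by rw [val_gD, det_dm ν.pow5]⟩,
    mem_suG_iff.2 ⟨hS, ?_⟩,
    mem_suG_iff.2 ⟨hdiag _ _ (val_gQ ν) fun i => ?_, by rw [val_gQ, det_qd ν.pow5]⟩,
    mem_suG_iff.2 ⟨hW, hdet _ hW ?_⟩, mem_suG_iff.2 ⟨hP, hdet _ hP ?_⟩⟩
  · fin_cases i <;> simp [map_pow, hμ] <;> grind
  · rw [val_gS]
    have e := congrArg Matrix.det (wm_mul_sm (F := F))
    simp only [Matrix.det_mul] at e
    have hw : (wm : M5).det ≠ 0 := by
      rw [← val_gW (F := F)]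
      exact ((Matrix.isUnit_iff_isUnit_det _).1 (Units.isUnit gW)).ne_zero
    have hs : (sm : M5).det ≠ 0 := by
      rw [← val_gS (F := F)]
      exact ((Matrix.isUnit_iff_isUnit_det _).1 (Units.isUnit gS)).ne_zero
    exact mul_right_cancel₀ (mul_ne_zero hw hs) (by linear_combination -e)
  · fin_cases i <;> simp [map_pow, hμ] <;> grind
  · rw [show 4 = 2 * 2 from rfl, pow_mul, pow_two gW, gW_sq, pow_two, gT_sq]
  · rw [show 4 = 2 * 2 from rfl, pow_mul, pow_two (gP ν), gP_sq, pow_two, gT_sq]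

/-- `Q`, `W` and `P` normalise the frame -/
theorem mem_normalizer_gR : gQ ν ∈ Subgroup.normalizer (gR ν : Set G5) ∧
    gW ∈ Subgroup.normalizer (gR ν : Set G5) ∧ gP ν ∈ Subgroup.normalizer (gR ν : Set G5) := by
  have h5 := ν.pow5
  refine ⟨?_, ?_, ?_⟩ <;>
    refine CfsgLib.Perm.Elusive.mem_normalizer_of_generators (a := gD ν) (b := gS) rfl ?_ ?_
  · have e : gQ ν * gD ν * (gQ ν)⁻¹ = gD ν := mul_inv_eq_iff_eq_mul.2
      (Units.ext (by rw [Units.val_mul, Units.val_mul, val_gQ, val_gD, qd_comm_dm]))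
    rw [e]; exact gD_mem ν
  · have e : gQ ν * gS * (gQ ν)⁻¹ = gZ ν * (gS * gD ν ^ 2) := mul_inv_eq_iff_eq_mul.2 (Units.ext (by
      simp only [Units.val_mul, val_gQ, val_gS, val_gZ, val_gD_pow, Matrix.smul_mul, one_mul]
      ext i j
      fin_cases i <;> fin_cases j <;>
        simp [qd, dm, sm, Matrix.mul_apply, Matrix.vecMul, dotProduct, Matrix.diagonal_apply, Fin.sum_univ_five] <;>
        grind))
    rw [e]; exact mul_mem (gZ_mem ν) (mul_mem (gS_mem ν) (pow_mem (gD_mem ν) _))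
  · have e : gW * gD ν * (gW : G5)⁻¹ = gD ν ^ 3 := mul_inv_eq_iff_eq_mul.2 (Units.ext (by
      rw [Units.val_mul, Units.val_mul, val_gW, val_gD, val_gD_pow]
      ext i j
      fin_cases i <;> fin_cases j <;>
        simp [wm, dm, Matrix.mul_apply, Matrix.vecMul, dotProduct, Matrix.diagonal_apply, Fin.sum_univ_five] <;>
        grind))
    rw [e]; exact pow_mem (gD_mem ν) _
  · have e : gW * gS * (gW : G5)⁻¹ = gS * gS := mul_inv_eq_iff_eq_mul.2
      (Units.ext (by rw [Units.val_mul, Units.val_mul, Units.val_mul, val_gW, val_gS, wm_mul_sm]))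
    rw [e]; exact mul_mem (gS_mem ν) (gS_mem ν)
  · have e : gP ν * gD ν * (gP ν)⁻¹ = (gS : G5)⁻¹ := by
      rw [mul_inv_eq_iff_eq_mul, eq_inv_mul_iff_mul_eq]
      refine Units.ext ?_
      rw [Units.val_mul, Units.val_mul, val_gP, val_gS, val_gD]
      ext i j
      fin_cases i <;> fin_cases j <;>
        simp [pm, dm, sm, Matrix.mul_apply, Matrix.vecMul, dotProduct, Matrix.diagonal_apply, Fin.sum_univ_five] <;>
        grind
    rw [e]; exact inv_mem (gS_mem ν)
  · have e : gP ν * gS * (gP ν)⁻¹ = gD ν := mul_inv_eq_iff_eq_mul.2 (Units.ext (by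
      rw [Units.val_mul, Units.val_mul, val_gP, val_gS, val_gD]
      ext i j
      fin_cases i <;> fin_cases j <;>
        simp [pm, dm, sm, Matrix.mul_apply, Matrix.vecMul, dotProduct, Matrix.diagonal_apply, Fin.sum_univ_five] <;>
        grind))
    rw [e]; exact gD_mem ν

/-- the frame group consists of monomial matrices over a shift -/
theorem shift_of_mem {g : G5} (hg : g ∈ gR ν) :
    ∃ c : Fin 5, ∀ x y : Fin 5, x ≠ y + c → (g : M5) x y = 0 := by
  have hmul : ∀ a b : G5, (∃ c : Fin 5, ∀ x y : Fin 5, x ≠ y + c → (a : M5) x y = 0) →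
      (∃ c : Fin 5, ∀ x y : Fin 5, x ≠ y + c → (b : M5) x y = 0) →
      ∃ c : Fin 5, ∀ x y : Fin 5, x ≠ y + c → ((a * b : G5) : M5) x y = 0 := by
    rintro a b ⟨c, hc⟩ ⟨c', hc'⟩
    refine ⟨c' + c, fun x y hxy => ?_⟩
    rw [Units.val_mul, Matrix.mul_apply]
    refine Finset.sum_eq_zero fun k _ => ?_
    by_cases hk : k = y + c'
    · rw [hc x k (by rw [hk, add_assoc]; exact hxy), zero_mul]
    · rw [hc' k y hk, mul_zero]
  have hone : ∃ c : Fin 5, ∀ x y : Fin 5, x ≠ y + c → ((1 : G5) : M5) x y = 0 :=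
    ⟨0, fun x y hxy => Matrix.one_apply_ne (by simpa using hxy)⟩
  rw [gR] at hg
  induction hg using Subgroup.closure_induction with
  | mem w hw =>
    rcases hw with rfl | rfl
    · exact ⟨0, fun x y hxy => by rw [val_gD, dm, Matrix.diagonal_apply_ne _ (by simpa using hxy)]⟩
    · exact ⟨1, fun x y hxy => by rw [val_gS, sm_apply, if_neg hxy]⟩
  | one => exact hone
  | mul a b _ _ ha hb => exact hmul a b ha hb
  | inv a _ ha =>
    have e : a⁻¹ = a ^ (orderOf a - 1) := inv_eq_of_mul_eq_one_right (by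
      rw [← pow_succ', Nat.sub_add_cancel (orderOf_pos a), pow_orderOf_eq_one])
    rw [e]
    generalize orderOf a - 1 = n
    induction n with
    | zero => simpa using hone
    | succ n ih => rw [pow_succ]; exact hmul _ _ ih ha

/-- the normaliser of the frame is not the whole group -/
theorem not_suG_le_normalizer (hq : QCase F 4) : ¬ suG F 4 ≤ Subgroup.normalizer (gR ν : Set G5) := by
  intro hle
  obtain ⟨C⟩ := CfsgLib.Perm.Trans.Unit.ctx_of_card hq.1
  obtain ⟨p, hp⟩ : ∃ p : M5,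
      p = !![0, 1, 0, 0, 0; 1, 0, 0, 0, 0; 0, 0, 1, 0, 0; 0, 0, 0, 1, 0; 0, 0, 0, 0, 1] := ⟨_, rfl⟩
  have hp2 : p * p = 1 := by
    rw [hp]; ext i j
    fin_cases i <;> fin_cases j <;> simp [Matrix.mul_apply, Fin.sum_univ_five]
  obtain ⟨g, hg⟩ : ∃ g : G5, (g : M5) = p := ⟨⟨p, p, hp2, hp2⟩, rfl⟩
  have hgv : ((g⁻¹ : G5) : M5) = p := left_inv_eq_right_inv (Units.inv_mul g) (by rw [hg, hp2])
  have hdet : (g : M5).det = 1 := by
    have h : (g : M5).det * (g : M5).det = 1 := by rw [← Matrix.det_mul, hg, hp2, Matrix.det_one]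
    have h0 : ((g : M5).det + 1) * ((g : M5).det + 1) = 0 := by
      linear_combination h + ((g : M5).det + 1) * ν.two
    linear_combination mul_self_eq_zero.1 h0 - ν.two
  have hgU : g ∈ Cfsg.GU 5 F 4 := C.mem_gu_iff_mat.2 (by
    rw [hg, hp]; ext i j
    fin_cases i <;> fin_cases j <;> simp [Matrix.mul_apply, Fin.sum_univ_five])
  have h1 : g * gS * g⁻¹ ∈ gR ν :=
    ((Subgroup.mem_normalizer_iff.1 (hle (mem_suG_iff.2 ⟨hgU, hdet⟩))) gS).1 (gS_mem ν)
  obtain ⟨c, hc⟩ := shift_of_mem h1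
  rw [Units.val_mul, Units.val_mul, hg, hgv, val_gS, hp] at hc
  by_cases hc1 : c = 2
  · have := hc 0 1 (by rw [hc1]; decide)
    simp [sm, Matrix.mul_apply, Fin.sum_univ_five] at this
  · have := hc 2 0 (fun e => hc1 (by simpa using e.symm))
    simp [sm, Matrix.mul_apply, Fin.sum_univ_five] at this

/-- the frame case -/
theorem frame_maximal (hq : QCase F 4) :
    IsMaximalIn (suG F 4) (Subgroup.normalizer (gR ν : Set G5) ⊓ suG F 4) := by
  classical
  refine ⟨lt_of_le_of_ne inf_le_right fun e => not_suG_le_normalizer (ν := ν) hq (e ▸ inf_le_left),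
    fun M hHM hM => ?_⟩
  by_cases hne : M = suG F 4
  · exact Or.inr hne
  obtain ⟨hD, hS, hQ, hW, hP⟩ := gens_mem_suG (ν := ν) hq
  obtain ⟨nQ, nW, nP⟩ := mem_normalizer_gR (ν := ν)
  have hR : gR ν ≤ Subgroup.normalizer (gR ν : Set G5) := Subgroup.le_normalizer
  have h : Ctx ν M := ⟨hq, hM, hne, hHM ⟨hR (gD_mem ν), hD⟩, hHM ⟨hR (gS_mem ν), hS⟩,
    hHM ⟨nQ, hQ⟩, hHM ⟨nW, hW⟩, hHM ⟨nP, hP⟩⟩
  exact Or.inl (le_antisymm (le_inf h.le_normalizer hM) hHM)

/-- the clause over the field of sixteen elements -/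
theorem symplectic_maximal_five_four (hq : QCase F 4) {R : Subgroup G5} (hsymp : IsSymplecticTypeGroup 5 R)
    (habs : ActsAbsolutelyIrreducibly (matrixSet R)) (hsim : R ≤ similarityGroup (Cfsg.hermForm 5 F 4))
    (h125 : Nat.card R = 125) (hZ : Nat.card (Subgroup.center R) = 5) :
    IsMaximalIn (suG F 4) (subgroupNormalizer R ⊓ suG F 4) := by
  obtain ⟨μ, hμ5, hμ1, Pc, hPc, D, S, hD, hS, rfl⟩ := exists_frame hq hsymp habs hsim h125 hZ
  have h2 : (2 : F) = 0 := by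
    have h0 : ((Fintype.card F : ℕ) : F) = 0 := FiniteField.cast_card_eq_zero F
    rw [hq.1] at h0
    push_cast at h0
    exact pow_eq_zero_iff (n := 4) (by norm_num) |>.1 (by linear_combination h0)
  let ν : Four F := ⟨μ, (mul_eq_zero.1 (show (μ - 1) * (μ ^ 4 + μ ^ 3 + μ ^ 2 + μ + 1) = 0 by
    linear_combination hμ5)).resolve_left (sub_ne_zero.2 hμ1), h2⟩
  have h := maximal_conj hPc (frame_maximal (ν := ν) hq)
  rwa [gR, show gD ν = D from Units.ext hD.symm, show (gS : G5) = S from Units.ext hS.symm] at h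

end CfsgLib.Perm.Trans.UnitFive.Pauli.Four
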