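import Cfsg.Agent.Lib.Perm.Trans.UnitFive.Pauli.Four.Phase

/-!
# The centraliser of the parity for `q = 4`: one involution
-/

set_option autoImplicit false
set_option linter.all false

namespace CfsgLib.Perm.Trans.UnitFive.Pauli.Four

open scoped Matrix
open Matrix Cfsg.Geo CfsgLib.Perm.Trans.FiveDim.Pauli CfsgLib.Perm.Trans.UnitFive.Pauli

variable {F : Type*} [Field F] [Fintype F]

local notation "M2" => Matrix (Fin 2) (Fin 2) F
local notation "M5" => Matrix (Fin 5) (Fin 5) F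
local notation "G5" => GL (Fin 5) F

variable {ν : Four F} {M : Subgroup (GL (Fin 5) F)}

theorem pm_sym : Sym (pm ν) := by
  refine sym_of_comm ?_
  rw [← pm_sq ν, mul_assoc]

/-- `Q` in the centraliser of the parity -/
def tQ (h : Ctx ν M) : Dt M := ⟨gQ ν, mem_Dt_of_sym h.memQ (by rw [val_gQ]; exact sym_qd _)⟩

/-- `W` in the centraliser of the parity -/
def tW (h : Ctx ν M) : Dt M := ⟨gW, mem_Dt_of_sym h.memW (by rw [val_gW]; exact sym_wm)⟩

/-- `P` in the centraliser of the parity -/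
def tP (h : Ctx ν M) : Dt M := ⟨gP ν, mem_Dt_of_sym h.memP (by rw [val_gP]; exact pm_sym)⟩

/-- `T` in its centraliser -/
def tT (h : Ctx ν M) : Dt M := ⟨gT, mem_Dt_of_sym h.memT (by rw [val_gT]; exact sym_tm)⟩

theorem prB_tQ (h : Ctx ν M) : (prB M (tQ h) : M2) = Matrix.diagonal ![ν.μ, ν.μ ^ 4] := by
  rw [val_prB]; exact Bm_qd _

theorem prB_tW (h : Ctx ν M) : (prB M (tW h) : M2) = !![0, 1; 1, 0] := by
  rw [val_prB]
  show Bm (wm : M5) = _
  rw [Bm_wm, ν.neg_eq]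

theorem prB_tP (h : Ctx ν M) : (prB M (tP h) : M2) = !![ν.γ1, ν.γ2; ν.γ2, ν.γ1] := by
  rw [val_prB]
  show Bm (pm ν) = _
  ext i j
  fin_cases i <;> fin_cases j <;> simp [Bm, pm, Four.γ1, Four.γ2] <;> grind [ν.two]

theorem prB_tT (h : Ctx ν M) : prB M (tT h) = 1 := by
  refine Units.ext ?_
  rw [val_prB, Units.val_one]
  show Bm (tm : M5) = _
  rw [Bm_tm]
  ext i j
  fin_cases i <;> fin_cases j <;> simp [ν.neg_eq]

/-- the entries of an element acting trivially on the image of `T - 1` -/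
structure Ker (g : M5) : Prop where
  sym : Sym g
  b : Bm g = 1

theorem Ker.vals {g : M5} (hk : Ker g) (ν : Four F) :
    g 1 1 = 1 + g 1 4 ∧ g 1 3 = g 1 2 ∧ g 2 4 = g 2 1 ∧ g 2 2 = 1 + g 2 3 := by
  have e00 := congrFun (congrFun hk.b 0) 0
  have e01 := congrFun (congrFun hk.b 0) 1
  have e10 := congrFun (congrFun hk.b 1) 0
  have e11 := congrFun (congrFun hk.b 1) 1
  simp [Bm, sub_eq_zero] at e00 e01 e10 e11
  exact ⟨by linear_combination e00, e01.symm, e10.symm, by linear_combination e11⟩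

theorem ker_of_Dt {g : Dt M} (hg : prB M g = 1) : Ker ((g : G5) : M5) :=
  ⟨sym_Dt g, by rw [← val_prB, hg, Units.val_one]⟩

/-- the product of two elements acting trivially -/
theorem Ker.mul_entries {g h : M5} (hg : Ker g) (hh : Ker h) (ν : Four F) :
    (g * h) 0 1 = g 0 0 * h 0 1 + g 0 1 ∧ (g * h) 0 2 = g 0 0 * h 0 2 + g 0 2 ∧
    (g * h) 1 0 = g 1 0 * h 0 0 + h 1 0 ∧ (g * h) 2 0 = g 2 0 * h 0 0 + h 2 0 ∧
    (g * h) 1 2 = g 1 0 * h 0 2 + g 1 2 + h 1 2 ∧ (g * h) 2 1 = g 2 0 * h 0 1 + g 2 1 + h 2 1 ∧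
    (g * h) 1 4 = g 1 0 * h 0 1 + g 1 4 + h 1 4 ∧ (g * h) 2 3 = g 2 0 * h 0 2 + g 2 3 + h 2 3 := by
  obtain ⟨u11, u13, u24, u22⟩ := hg.vals ν
  obtain ⟨v11, v13, v24, v22⟩ := hh.vals ν
  obtain ⟨a, b, c, d, e, f, k, l, m, n, o, r⟩ := hg.sym.vals
  obtain ⟨a', b', c', d', e', f', k', l', m', n', o', r'⟩ := hh.sym.vals
  have h2 := ν.two
  refine ⟨?_, ?_, ?_, ?_, ?_, ?_, ?_, ?_⟩ <;>
    simp [Matrix.mul_apply, Fin.sum_univ_five, a, b, c, d, e, f, k, l, m, n, o, r, a', b', c', d', e', f', k', l', m',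
      n', o', r', u11, u13, u24, u22, v11, v13, v24, v22] <;> grind

/-- the determinant is the entry at the origin -/
theorem Ker.det {g : M5} (hk : Ker g) (ν : Four F) : g.det = g 0 0 := by
  obtain ⟨u11, u13, u24, u22⟩ := hk.vals ν
  obtain ⟨a, b, c, d, e, f, k, l, m, n, o, r⟩ := hk.sym.vals
  obtain ⟨E, hE⟩ : ∃ E : M5, E = !![0, 0, 1, 0, 0; 1, 0, 0, 1, 0; 0, 1, 0, 0, 1; 0, 1, 0, 0, 0; 1, 0, 0, 0, 0] :=
    ⟨_, rfl⟩
  obtain ⟨L, hL⟩ : ∃ L : M5, L = !![1, 0, g 1 0, g 1 4, g 1 2; 0, 1, g 2 0, g 2 1, g 2 3; 0, 0, g 0 0, g 0 1, g 0 2;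
      0, 0, 0, 1, 0; 0, 0, 0, 0, 1] := ⟨_, rfl⟩
  have h2 := ν.two
  have hgE : g * E = E * L := by
    rw [hE, hL]
    ext i j
    fin_cases i <;> fin_cases j <;>
      simp [Matrix.mul_apply, Matrix.vecMul, dotProduct, Fin.sum_univ_five, a, b, c, d, e, f, k, l, m, n, o, r, u11,
        u13, u24, u22] <;> grind
  have hE0 : E.det ≠ 0 := by
    intro h
    obtain ⟨v, hv0, hv⟩ := Matrix.exists_mulVec_eq_zero_iff.2 h
    have e0 := congrFun hv 0
    have e1 := congrFun hv 1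
    have e2 := congrFun hv 2
    have e3 := congrFun hv 3
    have e4 := congrFun hv 4
    simp [hE, Matrix.mulVec, dotProduct, Fin.sum_univ_five] at e0 e1 e2 e3 e4
    refine hv0 (funext fun i => ?_)
    fin_cases i <;> simp <;> grind
  have hLd : L.det = g 0 0 := by
    rw [Matrix.det_of_upperTriangular (M := L) (by
      rw [hL]; intro i j hij
      fin_cases i <;> fin_cases j <;> simp at hij ⊢), hL, Fin.prod_univ_five]
    simp
  have h3 := congrArg Matrix.det hgE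
  rw [Matrix.det_mul, Matrix.det_mul, hLd, mul_comm g.det] at h3
  exact mul_left_cancel₀ hE0 h3

theorem origin_eq_one (h : Ctx ν M) {g : Dt M} (hg : prB M g = 1) : ((g : G5) : M5) 0 0 = 1 := by
  rw [← (ker_of_Dt hg).det ν]
  exact h.det _ (mem_Dt.1 g.2).1

/-- the unitary relations -/
theorem ker_unit (h : Ctx ν M) (C : CfsgLib.SU.UCtx F 4) {g : Dt M} (hg : prB M g = 1) :
    ((g : G5) : M5) 1 0 = C.bar (((g : G5) : M5) 0 1) ∧ ((g : G5) : M5) 2 0 = C.bar (((g : G5) : M5) 0 2) := by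
  have hk := ker_of_Dt hg
  obtain ⟨u11, u13, u24, u22⟩ := hk.vals ν
  obtain ⟨a, b, c, d, e, f, k, l, m, n, o, r⟩ := hk.sym.vals
  have h00 := origin_eq_one h hg
  have h2 := ν.two
  have e1 := unit_entry C (g := (g : G5)) (h.le (mem_Dt.1 g.2).1).1 0 1
  have e2 := unit_entry C (g := (g : G5)) (h.le (mem_Dt.1 g.2).1).1 0 2
  simp [Fin.sum_univ_five, map_add, a, b, c, d, e, f, k, l, m, n, o, r, u11, u13, u24, u22, h00] at e1 e2
  constructor <;> grind

/-- conjugation by powers of `Q` -/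
theorem exists_rotate (h : Ctx ν M) (g : Dt M) (hg : prB M g = 1) (k : ℕ) : ∃ x : Dt M, prB M x = 1 ∧
    ((x : G5) : M5) = qd (ν.μ ^ k) * ((g : G5) : M5) * qd ((ν.μ ^ k) ^ 4) := by
  refine ⟨tQ h ^ k * g * (tQ h ^ k)⁻¹, by simp [hg], ?_⟩
  have hp : ((gQ ν ^ k : G5) : M5) = qd (ν.μ ^ k) := by
    induction k with
    | zero => simp [qd_one]
    | succ n ih => rw [pow_succ, Units.val_mul, ih, val_gQ, qd_mul, ← pow_succ]
  have hpi : (((gQ ν ^ k)⁻¹ : G5) : M5) = qd ((ν.μ ^ k) ^ 4) := by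
    refine left_inv_eq_right_inv (Units.inv_mul (gQ ν ^ k)) ?_
    rw [hp, qd_mul, ← pow_succ', ← pow_mul, mul_comm, pow_mul, ν.pow5, one_pow, qd_one]
  show ((gQ ν ^ k * (g : G5) * (gQ ν ^ k)⁻¹ : G5) : M5) = _
  rw [Units.val_mul, Units.val_mul, hp, hpi]

/-- elements of the centre of the unipotent radical of the parity -/
def Cen (g : Dt M) : Prop :=
  prB M g = 1 ∧ ((g : G5) : M5) 0 1 = 0 ∧ ((g : G5) : M5) 0 2 = 0 ∧ ((g : G5) : M5) 1 0 = 0 ∧ ((g : G5) : M5) 2 0 = 0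

theorem idem_add (ν : Four F) {x y : F} (hx : x * x = x) (hy : y * y = y) : (x + y) * (x + y) = x + y := by
  linear_combination hx + hy + (x * y) * ν.two

theorem not_idem : ¬ ν.γ1 * ν.γ1 = ν.γ1 ∧ ¬ ν.γ2 * ν.γ2 = ν.γ2 := by
  constructor
  · intro e
    rw [ν.γ1_sq] at e
    exact one_ne_zero (α := F) (by linear_combination -ν.γ_add + e + ν.γ1 * ν.two)
  · intro e
    rw [ν.γ2_sq] at e
    exact one_ne_zero (α := F) (by linear_combination -ν.γ_add + e + ν.γ2 * ν.two)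

/-- the diagonal of a central element -/
theorem cen_diag (h : Ctx ν M) {g : Dt M} (hg : Cen g) :
    ((g : G5) : M5) 1 4 * ((g : G5) : M5) 1 4 = ((g : G5) : M5) 1 4 ∧
      ((g : G5) : M5) 2 3 * ((g : G5) : M5) 2 3 = ((g : G5) : M5) 2 3 := by
  obtain ⟨hB, g01, g02, g10, g20⟩ := hg
  have hk := ker_of_Dt hB
  have g00 := origin_eq_one h hB
  have hsum : ∀ n : ℕ, ∃ y : Dt M, prB M y = 1 ∧ ((y : G5) : M5) 0 1 = 0 ∧ ((y : G5) : M5) 0 2 = 0 ∧
      ((y : G5) : M5) 1 0 = 0 ∧ ((y : G5) : M5) 2 0 = 0 ∧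
      ((y : G5) : M5) 1 2 = (∑ k ∈ Finset.range n, (ν.μ ^ 2) ^ k) * ((g : G5) : M5) 1 2 ∧
      ((y : G5) : M5) 2 1 = (∑ k ∈ Finset.range n, (ν.μ ^ 3) ^ k) * ((g : G5) : M5) 2 1 ∧
      ((y : G5) : M5) 1 4 = n * ((g : G5) : M5) 1 4 ∧ ((y : G5) : M5) 2 3 = n * ((g : G5) : M5) 2 3 := fun n => by
    induction n with
    | zero => exact ⟨1, map_one _, by simp, by simp, by simp, by simp, by simp, by simp, by simp, by simp⟩
    | succ n ih =>
      obtain ⟨y, hy, y01, y02, y10, y20, y12, y21, y14, y23⟩ := ih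
      obtain ⟨x, hx, hxv⟩ := exists_rotate h g hB n
      have hxe : ∀ i j : Fin 5, ((x : G5) : M5) i j =
          ![1, ν.μ ^ n, (ν.μ ^ n) ^ 4, (ν.μ ^ n) ^ 4, ν.μ ^ n] i * ((g : G5) : M5) i j *
            ![1, (ν.μ ^ n) ^ 4, ((ν.μ ^ n) ^ 4) ^ 4, ((ν.μ ^ n) ^ 4) ^ 4, (ν.μ ^ n) ^ 4] j := fun i j => by
        rw [hxv, qd, qd, Matrix.mul_diagonal, Matrix.diagonal_mul]
      have h5 : (ν.μ ^ n) ^ 5 = 1 := by rw [← pow_mul, mul_comm, pow_mul, ν.pow5, one_pow]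
      have e2 : (ν.μ ^ 2) ^ n = (ν.μ ^ n) ^ 2 := by rw [← pow_mul, mul_comm, pow_mul]
      have e3 : (ν.μ ^ 3) ^ n = (ν.μ ^ n) ^ 3 := by rw [← pow_mul, mul_comm, pow_mul]
      obtain ⟨m01, m02, m10, m20, m12, m21, m14, m23⟩ := (ker_of_Dt hy).mul_entries (ker_of_Dt hx) ν
      refine ⟨y * x, by rw [map_mul, hy, hx, one_mul], ?_⟩
      rw [Subgroup.coe_mul, Units.val_mul, m01, m02, m10, m20, m12, m21, m14, m23, origin_eq_one h hy,
        origin_eq_one h hx, y01, y02, y10, y20, y12, y21, y14, y23, hxe 0 1, hxe 0 2, hxe 1 0, hxe 2 0, hxe 1 2,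
        hxe 2 1, hxe 1 4, hxe 2 3, g01, g02, g10, g20, Finset.sum_range_succ, Finset.sum_range_succ, Nat.cast_succ, e2, e3]
      simp
      clear hxv hxe e2 e3
      generalize ν.μ ^ n = u at h5 ⊢
      refine ⟨?_, ?_, ?_, ?_⟩ <;> grind
  obtain ⟨y, hy, y01, y02, y10, y20, y12, y21, y14, y23⟩ := hsum 5
  have hz : ∀ c : F, c ^ 5 = 1 → c ≠ 1 → (∑ k ∈ Finset.range 5, c ^ k) = 0 := fun c hc hc1 => by
    rw [geom_sum_eq hc1, hc, sub_self, zero_div]
  rw [hz _ (by rw [← pow_mul, mul_comm, pow_mul, ν.pow5, one_pow]) (ν.pow_ne_one (by norm_num)), zero_mul] at y12 y21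
  have y5 : ((5 : ℕ) : F) = 1 := by push_cast; linear_combination 2 * ν.two
  rw [y5, one_mul] at y14 y23
  obtain ⟨u11, u13, u24, u22⟩ := (ker_of_Dt hy).vals ν
  obtain ⟨a, b, c, d, e, f, k, l, m, n, o, r⟩ := (sym_Dt y).vals
  have hb : Blocked ((y : G5) : M5) := by
    simp [Blocked, a, b, c, d, e, f, k, l, m, n, o, r, u13, u24, y01, y02, y10, y20, y12, y21]
  obtain ⟨m1, m2⟩ := mono_pairs h ⟨(y : G5), mem_Cq_of_blocked (mem_Dt.1 y.2).1 hb⟩
  simp [Mono, p1, p2, e, f, o, r, u11, u22, y14, y23] at m1 m2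
  constructor
  · rcases m1 with e' | e' <;> grind [ν.two]
  · rcases m2 with e' | e' <;> grind [ν.two]

/-- a central element is trivial or the parity -/
theorem cen_cases (h : Ctx ν M) {g : Dt M} (hg : Cen g) : g = 1 ∨ (g : G5) = gT := by
  obtain ⟨hB, g01, g02, g10, g20⟩ := hg
  obtain ⟨hz1, hz2⟩ := cen_diag h ⟨hB, g01, g02, g10, g20⟩
  obtain ⟨u11, u13, u24, u22⟩ := (ker_of_Dt hB).vals ν
  obtain ⟨a, b, c, d, e, f, kk, l, m, n, o, r⟩ := (sym_Dt g).vals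
  have g00 := origin_eq_one h hB
  obtain ⟨z1, hz1e⟩ : ∃ z, z = ((g : G5) : M5) 1 4 := ⟨_, rfl⟩
  obtain ⟨z2, hz2e⟩ : ∃ z, z = ((g : G5) : M5) 2 3 := ⟨_, rfl⟩
  obtain ⟨z, hze⟩ : ∃ z, z = ((g : G5) : M5) 1 2 := ⟨_, rfl⟩
  obtain ⟨z', hze'⟩ : ∃ z, z = ((g : G5) : M5) 2 1 := ⟨_, rfl⟩
  rw [← hz1e] at hz1
  rw [← hz2e] at hz2
  obtain ⟨γ, hγ⟩ : ∃ γ, γ = ν.γ2 := ⟨_, rfl⟩
  have hidem : ∀ k : ℕ, (γ * z1 + ν.γ1 * z2 + ((ν.μ ^ 2) ^ k * z + (ν.μ ^ 3) ^ k * z')) *
      (γ * z1 + ν.γ1 * z2 + ((ν.μ ^ 2) ^ k * z + (ν.μ ^ 3) ^ k * z')) =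
      γ * z1 + ν.γ1 * z2 + ((ν.μ ^ 2) ^ k * z + (ν.μ ^ 3) ^ k * z') := fun k => by
    obtain ⟨x, hx, hxv⟩ := exists_rotate h g hB k
    obtain ⟨y, hy⟩ : ∃ y, y = tP h * x * (tP h)⁻¹ := ⟨_, rfl⟩
    have hyB : prB M y = 1 := by simp [hy, hx]
    have hyv : ((y : G5) : M5) * pm ν = pm ν * ((x : G5) : M5) := by
      rw [hy, Subgroup.coe_mul, Subgroup.coe_mul, InvMemClass.coe_inv, show ((tP h : Dt M) : G5) = gP ν from rfl,
        ← val_gP, ← Units.val_mul, ← Units.val_mul, inv_mul_cancel_right]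
    have h5 : (ν.μ ^ k) ^ 5 = 1 := by rw [← pow_mul, mul_comm, pow_mul, ν.pow5, one_pow]
    obtain ⟨c1, hc1⟩ : ∃ c, c = (ν.μ ^ 2) ^ k * z := ⟨_, rfl⟩
    obtain ⟨c2, hc2⟩ : ∃ c, c = (ν.μ ^ 3) ^ k * z' := ⟨_, rfl⟩
    have hxe : ((x : G5) : M5) = !![1, 0, 0, 0, 0; 0, 1 + z1, c1, c1, z1; 0, c2, 1 + z2, z2, c2;
        0, c2, z2, 1 + z2, c2; 0, z1, c1, c1, 1 + z1] := by
      rw [hxv, qd, qd, hc1, hc2, hz1e, hz2e, hze, hze',
        show (ν.μ ^ 2) ^ k = (ν.μ ^ k) ^ 2 by rw [← pow_mul, mul_comm, pow_mul],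
        show (ν.μ ^ 3) ^ k = (ν.μ ^ k) ^ 3 by rw [← pow_mul, mul_comm, pow_mul]]
      generalize ν.μ ^ k = u at h5 ⊢
      ext i j
      rw [Matrix.mul_diagonal, Matrix.diagonal_mul]
      fin_cases i <;> fin_cases j <;>
        simp [g00, g01, g02, g10, g20, a, b, c, d, e, f, kk, l, m, n, o, r, u11, u13, u24, u22] <;>
        grind
    obtain ⟨w1, hw1⟩ : ∃ w, w = γ * z1 + ν.γ1 * z2 + (c1 + c2) := ⟨_, rfl⟩
    obtain ⟨w2, hw2⟩ : ∃ w, w = ν.γ1 * z1 + γ * z2 + (c1 + c2) := ⟨_, rfl⟩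
    obtain ⟨w3, hw3⟩ : ∃ w, w = z1 + z2 + γ * c1 + ν.γ1 * c2 := ⟨_, rfl⟩
    obtain ⟨w4, hw4⟩ : ∃ w, w = z1 + z2 + ν.γ1 * c1 + γ * c2 := ⟨_, rfl⟩
    obtain ⟨G, hG⟩ : ∃ G : M5, G = !![1, 0, 0, 0, 0; 0, 1 + w1, w3, w3, w1; 0, w4, 1 + w2, w2, w4;
        0, w4, w2, 1 + w2, w4; 0, w1, w3, w3, 1 + w1] := ⟨_, rfl⟩
    have hGP : G * pm ν = pm ν * ((x : G5) : M5) := by
      rw [hxe, hG, hw1, hw2, hw3, hw4, hγ]
      ext i j
      fin_cases i <;> fin_cases j <;>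
        simp [pm, Four.γ1, Four.γ2, Matrix.mul_apply, Matrix.vecMul, dotProduct, Fin.sum_univ_five] <;>
        grind [ν.eq, ν.two]
    have hyG : ((y : G5) : M5) = G := (gP ν).isUnit.mul_right_cancel (hyv.trans hGP.symm)
    have hyc : Cen y := ⟨hyB, by simp [hyG, hG], by simp [hyG, hG], by simp [hyG, hG], by simp [hyG, hG]⟩
    have hfin := (cen_diag h hyc).1
    rw [hyG, hG] at hfin
    simp [hw1, hc1, hc2] at hfin
    exact hfin
  obtain ⟨w, hw⟩ : ∃ w : ℕ → F, w = fun k => (ν.μ ^ 2) ^ k * z + (ν.μ ^ 3) ^ k * z' := ⟨_, rfl⟩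
  obtain ⟨c0, hc0⟩ : ∃ c, c = γ * z1 + ν.γ1 * z2 := ⟨_, rfl⟩
  have hid : ∀ k, (c0 + w k) * (c0 + w k) = c0 + w k := fun k => by rw [hc0, hw]; exact hidem k
  have hc : c0 * c0 = c0 := by
    have h5 : c0 = (c0 + w 0) + (c0 + w 1) + (c0 + w 2) + (c0 + w 3) + (c0 + w 4) := by
      rw [hw]
      grind [ν.eq, ν.two]
    rw [h5]
    exact idem_add ν (idem_add ν (idem_add ν (idem_add ν (hid 0) (hid 1)) (hid 2)) (hid 3)) (hid 4)
  have hwid : ∀ k, w k * w k = w k := fun k => by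
    have e : w k = (c0 + w k) + c0 := by linear_combination (-c0) * ν.two
    rw [e]
    exact idem_add ν (hid k) hc
  have hrec : ∀ k, w k + w (k + 2) = γ * w (k + 1) := fun k => by
    rw [hw, hγ]
    simp only [Four.γ2, pow_succ]
    grind [ν.eq, ν.pow5]
  have hw0 : ∀ k, w (k + 1) = 0 := fun k => by
    by_contra hne
    have h1 : w (k + 1) = 1 := mul_right_cancel₀ hne (by rw [one_mul]; exact hwid (k + 1))
    have h2 := idem_add ν (hwid k) (hwid (k + 2))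
    rw [hrec, h1, mul_one, hγ] at h2
    exact not_idem.2 h2
  have e1 := hw0 0
  have e2 := hw0 1
  rw [hw] at e1 e2
  simp at e1 e2
  have hzz : z = 0 := by
    have hne : ν.μ ^ 2 * (ν.μ ^ 2 - ν.μ ^ 3) ≠ 0 := mul_ne_zero (pow_ne_zero _ ν.ne_zero) (sub_ne_zero.2 fun e =>
      ν.ne_one (mul_right_cancel₀ (pow_ne_zero 2 ν.ne_zero) (by linear_combination -e)))
    refine (mul_eq_zero.1 (show ν.μ ^ 2 * (ν.μ ^ 2 - ν.μ ^ 3) * z = 0 from ?_)).resolve_left hne
    linear_combination e2 - ν.μ ^ 3 * e1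
  have hzz' : z' = 0 := by
    rw [hzz] at e1
    simpa [ν.ne_zero] using e1
  have hzeq : z1 = z2 := by
    have hz : ∀ x : F, x * x = x → x = 0 ∨ x = 1 := fun x hx => by
      rcases mul_eq_zero.1 (show x * (x - 1) = 0 by linear_combination hx) with e | e
      exacts [Or.inl e, Or.inr (sub_eq_zero.1 e)]
    rw [hc0, hγ] at hc
    rcases hz z1 hz1 with rfl | rfl <;> rcases hz z2 hz2 with rfl | rfl
    · rfl
    · simp at hc; exact absurd hc not_idem.1
    · simp at hc; exact absurd hc not_idem.2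
    · rfl
  rcases mul_eq_zero.1 (show z1 * (z1 - 1) = 0 by linear_combination hz1) with e' | e'
  · refine Or.inl (Subtype.ext (Units.ext ?_))
    rw [OneMemClass.coe_one, Units.val_one]
    rw [e'] at hz1e hzeq
    ext i j
    fin_cases i <;> fin_cases j <;> simp [g00, g01, g02, g10, g20, a, b, c, d, e, f, kk, l, m, n, o, r, u11, u13, u24,
      u22, ← hz1e, ← hz2e, ← hze, ← hze', hzz, hzz', ← hzeq]
  · refine Or.inr (Units.ext ?_)
    rw [sub_eq_zero.1 e'] at hz1e hzeq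
    rw [val_gT]
    ext i j
    fin_cases i <;> fin_cases j <;> simp [tm, g00, g01, g02, g10, g20, a, b, c, d, e, f, kk, l, m, n, o, r, u11, u13,
      u24, u22, ← hz1e, ← hz2e, ← hze, ← hze', hzz, hzz', ← hzeq, ν.add_self]

/-- the kernel of the action on the image of `T - 1` -/
theorem ker_cases (h : Ctx ν M) {g : Dt M} (hg : prB M g = 1) : g = 1 ∨ (g : G5) = gT := by
  obtain ⟨C⟩ := CfsgLib.Perm.Trans.Unit.ctx_of_card h.qcase.1
  have g00 := origin_eq_one h hg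
  obtain ⟨g10, g20⟩ := ker_unit h C hg
  have key : ∀ k : ℕ,
      (((g : G5) : M5) 1 0 * ((g : G5) : M5) 0 1 * ((ν.μ ^ k) ^ 4 + ν.μ ^ k)) *
        (((g : G5) : M5) 1 0 * ((g : G5) : M5) 0 1 * ((ν.μ ^ k) ^ 4 + ν.μ ^ k)) =
      ((g : G5) : M5) 1 0 * ((g : G5) : M5) 0 1 * ((ν.μ ^ k) ^ 4 + ν.μ ^ k) ∧
      (((g : G5) : M5) 2 0 * ((g : G5) : M5) 0 2 * ((ν.μ ^ k) ^ 4 + ν.μ ^ k)) *
        (((g : G5) : M5) 2 0 * ((g : G5) : M5) 0 2 * ((ν.μ ^ k) ^ 4 + ν.μ ^ k)) =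
      ((g : G5) : M5) 2 0 * ((g : G5) : M5) 0 2 * ((ν.μ ^ k) ^ 4 + ν.μ ^ k) := fun k => by
    obtain ⟨x, hx, hxv⟩ := exists_rotate h g hg k
    have h5 : (ν.μ ^ k) ^ 5 = 1 := by rw [← pow_mul, mul_comm, pow_mul, ν.pow5, one_pow]
    have x01 : ((x : G5) : M5) 0 1 = ((g : G5) : M5) 0 1 * (ν.μ ^ k) ^ 4 := by
      rw [hxv, qd, qd, Matrix.mul_diagonal, Matrix.diagonal_mul]; simp
    have x10 : ((x : G5) : M5) 1 0 = ν.μ ^ k * ((g : G5) : M5) 1 0 := by
      rw [hxv, qd, qd, Matrix.mul_diagonal, Matrix.diagonal_mul]; simp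
    have x02 : ((x : G5) : M5) 0 2 = ((g : G5) : M5) 0 2 * ν.μ ^ k := by
      rw [hxv, qd, qd, Matrix.mul_diagonal, Matrix.diagonal_mul]; simp; grind
    have x20 : ((x : G5) : M5) 2 0 = (ν.μ ^ k) ^ 4 * ((g : G5) : M5) 2 0 := by
      rw [hxv, qd, qd, Matrix.mul_diagonal, Matrix.diagonal_mul]; simp
    have x00 := origin_eq_one h hx
    obtain ⟨c, hc⟩ : ∃ c, c = g * x * (x * g)⁻¹ := ⟨_, rfl⟩
    have hcB : prB M c = 1 := by simp [hc, hg, hx]
    have c00 := origin_eq_one h hcB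
    have hgx : prB M (g * x) = 1 := by simp [hg, hx]
    have hxg : prB M (x * g) = 1 := by simp [hg, hx]
    have e : ((c : G5) : M5) * (((x : G5) : M5) * ((g : G5) : M5)) = ((g : G5) : M5) * ((x : G5) : M5) := by
      rw [← Units.val_mul, ← Units.val_mul, ← Units.val_mul, ← Subgroup.coe_mul, ← Subgroup.coe_mul,
        ← Subgroup.coe_mul, hc, inv_mul_cancel_right]
    obtain ⟨p01, p02, p10, p20, p12, p21, p14, p23⟩ := (ker_of_Dt hg).mul_entries (ker_of_Dt hx) ν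
    obtain ⟨r01, r02, r10, r20, r12, r21, r14, r23⟩ := (ker_of_Dt hx).mul_entries (ker_of_Dt hg) ν
    obtain ⟨s01, s02, s10, s20, s12, s21, s14, s23⟩ :=
      (ker_of_Dt hcB).mul_entries (ker_of_Dt hxg) ν
    rw [Subgroup.coe_mul, Units.val_mul, e] at s01 s02 s10 s20 s14 s23
    rw [p01, r01, c00, g00, x00] at s01
    rw [p02, r02, c00, g00, x00] at s02
    rw [p10, r10, g00, x00] at s10
    rw [p20, r20, g00, x00] at s20
    rw [p14, r14, r01] at s14
    rw [p23, r23, r02] at s23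
    have hx00 : (((x : G5) : M5) * ((g : G5) : M5)) 0 0 = 1 := by
      rw [← Units.val_mul, ← Subgroup.coe_mul]; exact origin_eq_one h hxg
    rw [hx00] at s10 s20
    have c01 : ((c : G5) : M5) 0 1 = 0 := by linear_combination -s01
    have c02 : ((c : G5) : M5) 0 2 = 0 := by linear_combination -s02
    have c10 : ((c : G5) : M5) 1 0 = 0 := by linear_combination -s10
    have c20 : ((c : G5) : M5) 2 0 = 0 := by linear_combination -s20
    obtain ⟨hd1, hd2⟩ := cen_diag h ⟨hcB, c01, c02, c10, c20⟩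
    rw [c10, x01, x10] at s14
    rw [c20, x02, x20] at s23
    have h2 := ν.two
    constructor
    · rw [show ((g : G5) : M5) 1 0 * ((g : G5) : M5) 0 1 * ((ν.μ ^ k) ^ 4 + ν.μ ^ k) = ((c : G5) : M5) 1 4 by
        linear_combination s14 + (((g : G5) : M5) 1 0 * ((g : G5) : M5) 0 1 * ν.μ ^ k) * h2]
      exact hd1
    · rw [show ((g : G5) : M5) 2 0 * ((g : G5) : M5) 0 2 * ((ν.μ ^ k) ^ 4 + ν.μ ^ k) = ((c : G5) : M5) 2 3 by
        linear_combination s23 + (((g : G5) : M5) 2 0 * ((g : G5) : M5) 0 2 * (ν.μ ^ k) ^ 4) * h2]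
      exact hd2
  have hkill : ∀ n : F, (∀ k : ℕ, (n * ((ν.μ ^ k) ^ 4 + ν.μ ^ k)) * (n * ((ν.μ ^ k) ^ 4 + ν.μ ^ k)) =
      n * ((ν.μ ^ k) ^ 4 + ν.μ ^ k)) → n = 0 := fun n hn => by
    have e1 : n * ((ν.μ ^ 1) ^ 4 + ν.μ ^ 1) = n * ν.γ1 := by simp [Four.γ1, add_comm]
    have e2 : n * ((ν.μ ^ 2) ^ 4 + ν.μ ^ 2) = n * ν.γ2 := by
      simp [Four.γ2]; grind [ν.pow5]
    have a1 := hn 1
    have a2 := hn 2
    rw [e1] at a1
    rw [e2] at a2
    have a := idem_add ν a1 a2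
    rw [← mul_add, ν.γ_add, mul_one] at a
    by_contra hne
    have h1 : n = 1 := mul_right_cancel₀ hne (by rw [one_mul]; exact a)
    rw [h1, one_mul] at a1
    exact not_idem.1 a1
  have n1 := hkill _ fun k => (key k).1
  have n2 := hkill _ fun k => (key k).2
  have g01 : ((g : G5) : M5) 0 1 = 0 := by
    rcases mul_eq_zero.1 n1 with e | e
    · rw [g10, map_eq_zero] at e; exact e
    · exact e
  have g02 : ((g : G5) : M5) 0 2 = 0 := by
    rcases mul_eq_zero.1 n2 with e | e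
    · rw [g20, map_eq_zero] at e; exact e
    · exact e
  exact cen_cases h ⟨hg, g01, g02, by rw [g10, g01, map_zero], by rw [g20, g02, map_zero]⟩

/-- the action on the image of `T - 1` is large -/
theorem big_prB (h : Ctx ν M) : Big F 4 (prB M).range := by
  by_contra hbig
  have hm := mono_of_char_two h.qcase (G := (prB M).range) (by rintro _ ⟨x, rfl⟩; exact prB_mem h x) hbig
    (d := prB M (tQ h)) (w := prB M (tW h)) ⟨_, rfl⟩ ⟨_, rfl⟩ ν.pow5 ν.ne_one (prB_tQ h) ν.two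
    (by rw [prB_tW]; rfl) (by rw [prB_tW]; rfl) (g := prB M (tP h)) ⟨_, rfl⟩
  rw [prB_tP] at hm
  rcases hm with ⟨e, -⟩ | ⟨e, -⟩
  · exact ν.γ2_ne.1 e
  · exact ν.γ1_ne.1 e

/-- involutions in `GU₂(4)` -/
theorem inv_shape (C : CfsgLib.SU.UCtx F 4) (ν : Four F) {b : GL (Fin 2) F} (hb : b ∈ Cfsg.GU 2 F 4) (hb2 : b * b = 1)
    (hb1 : b ≠ 1) : ∃ a β : F, (b : M2) = !![a, β; β ^ 4, a] ∧ a ^ 4 = a ∧ a ≠ 1 ∧ β ^ 5 = (1 + a) * (1 + a) := by
  obtain ⟨a, β, γ, d, hv⟩ : ∃ a β γ d, (b : M2) = !![a, β; γ, d] := ⟨_, _, _, _, Matrix.eta_fin_two _⟩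
  have hsq : (b : M2) * (b : M2) = 1 := by rw [← Units.val_mul, hb2, Units.val_one]
  have ht : (b : M2)ᵀ = (b : M2).map C.bar := by
    have h1 := C.mem_gu_iff_mat.1 hb
    have h3 : (b : M2).map C.bar * (b : M2).map C.bar = 1 := by
      rw [← Matrix.map_mul, hsq, Matrix.map_one _ (map_zero _) (map_one _)]
    calc (b : M2)ᵀ = (b : M2)ᵀ * ((b : M2).map C.bar * (b : M2).map C.bar) := by rw [h3, mul_one]
      _ = _ := by rw [← mul_assoc, h1, one_mul]
  rw [hv] at ht hsq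
  have t00 := congrFun (congrFun ht 0) 0
  have t01 := congrFun (congrFun ht 0) 1
  have q00 := congrFun (congrFun hsq 0) 0
  have q01 := congrFun (congrFun hsq 0) 1
  simp [C.bar_eq] at t00 t01
  simp [Matrix.mul_apply, Fin.sum_univ_two] at q00 q01
  have h2 := ν.two
  have had : d = a := by
    have hdet : (a * d - β * γ) * (a * d - β * γ) = 1 := by
      have e := congrArg Matrix.det hsq
      rwa [Matrix.det_mul, Matrix.det_one, Matrix.det_fin_two_of] at e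
    have h1 : a * d - β * γ = 1 := by
      have h0 : (a * d - β * γ + 1) * (a * d - β * γ + 1) = 0 := by
        linear_combination hdet + (a * d - β * γ + 1) * h2
      linear_combination mul_self_eq_zero.1 h0 - h2
    by_contra hne
    have hs : a + d ≠ 0 := fun e => hne (by linear_combination e - a * h2)
    have hβ : β = 0 := (mul_eq_zero.1 (show (a + d) * β = 0 by linear_combination q01)).resolve_left hs
    have ha : a = 0 := (mul_eq_zero.1 (show (a + d) * a = 0 by linear_combination q00 + h1 + h2)).resolve_left hs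
    rw [hβ, ha] at q00
    simp at q00
  subst had
  refine ⟨d, β, by rw [hv, t01], t00.symm, fun e => hb1 (Units.ext ?_), ?_⟩
  · subst e
    have hβ : β = 0 := by
      rw [t01] at q00
      exact pow_eq_zero_iff (n := 5) (by norm_num) |>.1 (by linear_combination q00)
    rw [hv, Units.val_one, t01, hβ]
    ext i j
    fin_cases i <;> fin_cases j <;> simp
  · rw [t01] at q00
    linear_combination q00 - d * d * h2 - d * h2

/-- the only involutions in the centraliser of the parity -/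
theorem eq_one_or_parity (h : Ctx ν M) {s : Dt M} (hs : s * s = 1) : s = 1 ∨ (s : G5) = gT := by
  classical
  obtain ⟨C⟩ := CfsgLib.Perm.Trans.Unit.ctx_of_card h.qcase.1
  by_cases hb : prB M s = 1
  · exact ker_cases h hb
  exfalso
  obtain ⟨a, β, hbv, ha4, ha1, hβ⟩ := inv_shape C ν (prB_mem h s) (by rw [← map_mul, hs, map_one]) hb
  -- a lift of square `T` with the same diagonal
  have hbase : ∃ x : Dt M, (x : G5) * (x : G5) = gT ∧ (prB M x : M2) 0 0 = a := by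
    have hw : ((tW h : Dt M) : G5) * ((tW h : Dt M) : G5) = gT := gW_sq
    have hconj : ∀ (y x : Dt M), (x : G5) * (x : G5) = gT →
        ((y * x * y⁻¹ : Dt M) : G5) * ((y * x * y⁻¹ : Dt M) : G5) = gT := fun y x hx => by
      have hy : (y : G5) * gT = gT * (y : G5) := (mem_Dt.1 y.2).2
      rw [Subgroup.coe_mul, Subgroup.coe_mul, InvMemClass.coe_inv, conj_mul, hx, hy, mul_inv_cancel_right]
    have hz : a * (a - 1) * ((a - ν.γ1) * (a - ν.γ2)) = 0 := by
      linear_combination ha4 - (a ^ 3 - a ^ 2) * ν.γ_add + (a ^ 2 - a) * ν.γ_mul + (a ^ 2 - a ^ 3) * ν.two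
    have hP : ∀ j : ℕ, ∃ x : Dt M, (x : G5) * (x : G5) = gT ∧
        (prB M x : M2) 0 0 = (ν.μ ^ 2) ^ j + (ν.μ ^ 3) ^ j := fun j => by
      refine ⟨tP h * (tQ h ^ j * tW h * (tQ h ^ j)⁻¹) * (tP h)⁻¹, hconj _ _ (hconj _ _ hw), ?_⟩
      have hQ : (prB M (tQ h ^ j * tW h * (tQ h ^ j)⁻¹) : M2) =
          !![0, (ν.μ ^ 2) ^ j; (ν.μ ^ 3) ^ j, 0] := by
        rw [map_mul, map_mul, map_inv, map_pow, Units.val_mul, Units.val_mul, Units.val_pow_eq_pow_val, prB_tQ,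
          Matrix.diagonal_pow, prB_tW, show (((prB M (tQ h) ^ j)⁻¹ : GL (Fin 2) F) : M2) =
            Matrix.diagonal ![(ν.μ ^ 4) ^ j, ν.μ ^ j] from left_inv_eq_right_inv (Units.inv_mul _) (by
          rw [Units.val_pow_eq_pow_val, prB_tQ, Matrix.diagonal_pow, Matrix.diagonal_mul_diagonal,
            ← Matrix.diagonal_one]
          congr 1
          funext i
          fin_cases i <;> simp [← mul_pow, ← pow_succ, ← pow_succ', ν.pow5])]
        ext i j'
        fin_cases i <;> fin_cases j' <;>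
          simp [Matrix.mul_apply, Matrix.vecMul, dotProduct, Fin.sum_univ_two, ← mul_pow]
        · congr 1; ring
        · congr 1; linear_combination ν.μ ^ 3 * ν.pow5
      rw [map_mul, map_mul, map_inv, Units.val_mul, Units.val_mul, hQ, prB_tP,
        show (((prB M (tP h))⁻¹ : GL (Fin 2) F) : M2) = !![ν.γ1, ν.γ2; ν.γ2, ν.γ1] from
          left_inv_eq_right_inv (Units.inv_mul _) (by
          rw [prB_tP]
          ext i j'
          fin_cases i <;> fin_cases j' <;> simp [Matrix.mul_apply, Fin.sum_univ_two, ν.γ1_sq, ν.γ2_sq, ν.γ_mul,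
            mul_comm ν.γ2 ν.γ1, ν.γ_add, ν.add_self, add_comm ν.γ2 ν.γ1])]
      simp [Matrix.mul_apply, Matrix.vecMul, dotProduct, Fin.sum_univ_two]
      linear_combination ((ν.μ ^ 2) ^ j + (ν.μ ^ 3) ^ j) * ν.γ_mul
    rcases mul_eq_zero.1 hz with e | e <;> rcases mul_eq_zero.1 e with e | e
    · exact ⟨tW h, hw, by rw [prB_tW, e]; rfl⟩
    · exact absurd (sub_eq_zero.1 e) ha1
    · obtain ⟨x, hx, hxv⟩ := hP 2
      refine ⟨x, hx, ?_⟩
      rw [hxv, sub_eq_zero.1 e]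
      simp only [Four.γ1]
      grind [ν.pow5]
    · obtain ⟨x, hx, hxv⟩ := hP 1
      refine ⟨x, hx, ?_⟩
      rw [hxv, sub_eq_zero.1 e]
      simp [Four.γ2]
  obtain ⟨x, hx, hxa⟩ := hbase
  have hxT : x * x = tT h := Subtype.ext hx
  have hx2 : prB M x * prB M x = 1 := by rw [← map_mul, hxT, prB_tT]
  have hx1 : prB M x ≠ 1 := fun e => ha1 (by rw [← hxa, e]; simp)
  obtain ⟨a', β', hxv, -, -, hβ'⟩ := inv_shape C ν (prB_mem h x) hx2 hx1
  obtain rfl : a' = a := by rw [← hxa, hxv]; simp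
  have hδ : (1 + a') * (1 + a') ≠ 0 := mul_self_ne_zero.2 fun e => ha1 (by linear_combination e - ν.two)
  have hβ'0 : β' ≠ 0 := fun e => hδ (by rw [← hβ', e, zero_pow (by norm_num)])
  have hr : (β / β') ^ 5 = 1 := by rw [div_pow, hβ, hβ', div_self hδ]
  haveI : Fact (Nat.Prime 5) := ⟨by norm_num⟩
  have hprim : IsPrimitiveRoot ν.μ 5 := by
    rw [← orderOf_eq_prime ν.pow5 ν.ne_one]
    exact IsPrimitiveRoot.orderOf _
  obtain ⟨i, -, hi⟩ := hprim.eq_pow_of_pow_eq_one hr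
  obtain ⟨y, hy⟩ : ∃ y, y = tQ h ^ (3 * i) * x * (tQ h ^ (3 * i))⁻¹ := ⟨_, rfl⟩
  have hyb : prB M y = prB M s := by
    refine Units.ext ?_
    rw [hy, map_mul, map_mul, map_inv, map_pow, Units.val_mul, Units.val_mul, hxv, hbv, Units.val_pow_eq_pow_val,
      prB_tQ, Matrix.diagonal_pow, show (((prB M (tQ h) ^ (3 * i))⁻¹ : GL (Fin 2) F) : M2) =
        Matrix.diagonal ![(ν.μ ^ 4) ^ (3 * i), ν.μ ^ (3 * i)] from left_inv_eq_right_inv (Units.inv_mul _) (by
      rw [Units.val_pow_eq_pow_val, prB_tQ, Matrix.diagonal_pow, Matrix.diagonal_mul_diagonal,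
        ← Matrix.diagonal_one]
      congr 1
      funext j
      fin_cases j <;> simp [← mul_pow, ← pow_succ, ← pow_succ', ν.pow5])]
    have hmu : (ν.μ ^ 4) ^ (3 * i) * ν.μ ^ (3 * i) = 1 := by rw [← mul_pow, ← pow_succ, ν.pow5, one_pow]
    have hsq : ν.μ ^ (3 * i) * ν.μ ^ (3 * i) = ν.μ ^ i := by
      rw [← pow_add, show 3 * i + 3 * i = 5 * i + i by ring, pow_add, pow_mul, ν.pow5, one_pow, one_mul]
    have hβi : β = ν.μ ^ i * β' := by rw [hi, div_mul_cancel₀ _ hβ'0]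
    ext p r
    fin_cases p <;> fin_cases r <;>
      simp [Matrix.mul_apply, Matrix.vecMul, dotProduct, Fin.sum_univ_two, Matrix.diagonal_apply]
    · linear_combination a' * hmu
    · rw [hβi]; linear_combination β' * hsq
    · rw [hβi, mul_pow, ← pow_mul]
      have h4 : (ν.μ ^ 4) ^ (3 * i) * (ν.μ ^ 4) ^ (3 * i) = ν.μ ^ (i * 4) := by
        rw [← mul_pow, ← pow_add, ← pow_mul, show (4 + 4) * (3 * i) = 5 * (4 * i) + i * 4 by ring, pow_add, pow_mul,
          ν.pow5, one_pow, one_mul]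
      linear_combination β' ^ 4 * h4
    · linear_combination a' * hmu
  have hyT : y * y = tT h := by
    have hc : Commute (tQ h ^ (3 * i)) (tT h) := Commute.pow_left (Subtype.ext (mem_Dt.1 (tQ h).2).2) _
    rw [hy, conj_mul, hxT, hc.eq, mul_inv_cancel_right]
  have hk : prB M (s * y⁻¹) = 1 := by rw [map_mul, map_inv, hyb, mul_inv_cancel]
  have hT1 : tT h ≠ 1 := fun e => by
    have := congrArg (fun g : Dt M => ((g : G5) : M5) 1 1) e
    simp [tT, val_gT, tm] at this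
  rcases ker_cases h hk with e | e
  · rw [mul_inv_eq_one] at e
    rw [e, hyT] at hs
    exact hT1 hs
  · have e' : s = tT h * y := by
      rw [← mul_inv_eq_iff_eq_mul]
      exact Subtype.ext e
    have hc : tT h * y = y * tT h := Subtype.ext (mem_Dt.1 y.2).2.symm
    rw [e', mul_assoc, ← mul_assoc y, ← hc, mul_assoc, hyT, ← mul_assoc,
      show tT h * tT h = 1 from Subtype.ext gT_sq, one_mul] at hs
    exact hT1 hs

/-- odd normal subgroups of the centraliser of the parity consist of scalars -/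
theorem scalar_of_odd (h : Ctx ν M) {N : Subgroup (Dt M)} [N.Normal] (hodd : Odd (Nat.card N)) {n : Dt M}
    (hn : n ∈ N) : ∃ l : F, ((n : G5) : M5) = l • (1 : M5) := by
  classical
  obtain ⟨C⟩ := CfsgLib.Perm.Trans.Unit.ctx_of_card h.qcase.1
  have hbig := big_prB h
  obtain ⟨B, hB⟩ : ∃ B, B = N.map (prB M) ⊓ specialLinear (Fin 2) F := ⟨_, rfl⟩
  have hBG : B ≤ Cfsg.GU 2 F 4 ⊓ specialLinear (Fin 2) F := by
    subst hB
    rintro _ ⟨⟨x, -, rfl⟩, hd⟩
    exact ⟨prB_mem h x, hd⟩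
  have hnorm : ∀ s ∈ Cfsg.GU 2 F 4 ⊓ specialLinear (Fin 2) F, ∀ a ∈ B, s * a * s⁻¹ ∈ B := by
    intro s hs a ha
    subst hB
    have hsd : (s : M2).det = 1 := by
      have h1 : Matrix.GeneralLinearGroup.det s = 1 := hs.2
      rw [← Matrix.GeneralLinearGroup.val_det_apply, h1, Units.val_one]
    obtain ⟨_, ⟨x, rfl⟩, l, hl⟩ := hbig s hs.1 hsd
    obtain ⟨⟨k, hk, rfl⟩, had⟩ := ha
    refine ⟨⟨x * k * x⁻¹, (inferInstance : N.Normal).conj_mem k hk x, ?_⟩, ?_⟩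
    · rw [map_mul, map_mul, map_inv, mul_inv_eq_iff_eq_mul]
      refine Units.ext ?_
      simp only [Units.val_mul]
      rw [hl, Matrix.smul_mul, Matrix.mul_smul, mul_assoc, mul_assoc, Units.inv_mul, mul_one]
    · show Matrix.GeneralLinearGroup.det (s * prB M k * s⁻¹) = 1
      have h1 : Matrix.GeneralLinearGroup.det (prB M k) = 1 := had
      simp [map_mul, map_inv, h1]
  have hsc : ∀ b ∈ B, b = 1 := by
    intro b hb
    by_cases hns : ∀ c : F, (b : M2) ≠ c • 1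
    · exfalso
      have hfull := full_of_normalised h.qcase hBG hnorm hb hns
      have hW : prB M (tW h) ∈ B := hfull ⟨prB_mem h _, by
        show Matrix.GeneralLinearGroup.det (prB M (tW h)) = 1
        rw [Units.ext_iff, Matrix.GeneralLinearGroup.val_det_apply, prB_tW, Matrix.det_fin_two_of, Units.val_one]
        linear_combination -ν.two⟩
      rw [hB] at hW
      have hord : orderOf (prB M (tW h)) = 2 := orderOf_eq_prime (Units.ext (by
          rw [pow_two, Units.val_mul, prB_tW, Units.val_one]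
          ext i j
          fin_cases i <;> fin_cases j <;> simp [Matrix.mul_apply, Fin.sum_univ_two]))
        (fun e => by
          have := congrArg (fun g : GL (Fin 2) F => (g : M2) 0 0) e
          rw [prB_tW] at this
          simp at this)
      have h1 : orderOf (prB M (tW h)) ∣ Nat.card N :=
        (Subgroup.orderOf_dvd_natCard (N.map (prB M)) hW.1).trans (Subgroup.card_map_dvd N (prB M))
      rw [hord] at h1
      exact (Nat.not_even_iff_odd.2 hodd) (even_iff_two_dvd.2 h1)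
    · push Not at hns
      obtain ⟨c, hc⟩ := hns
      have hd : (b : M2).det = 1 := by
        have h1 : Matrix.GeneralLinearGroup.det b = 1 := (hB ▸ hb).2
        rw [← Matrix.GeneralLinearGroup.val_det_apply, h1, Units.val_one]
      rw [hc, Matrix.det_smul, Matrix.det_one, mul_one, Fintype.card_fin] at hd
      have hc1 : c = 1 := by
        have h0 : (c + 1) * (c + 1) = 0 := by linear_combination hd + (c + 1) * ν.two
        linear_combination mul_self_eq_zero.1 h0 - ν.two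
      exact Units.ext (by rw [hc, hc1, one_smul, Units.val_one])
  have hcomm : ∀ y : Dt M, prB M n * prB M y = prB M y * prB M n := fun y => by
    have hm : n * y * n⁻¹ * y⁻¹ ∈ N := by
      rw [mul_assoc n y, mul_assoc n]
      exact mul_mem hn ((inferInstance : N.Normal).conj_mem _ (inv_mem hn) y)
    have h1 : prB M (n * y * n⁻¹ * y⁻¹) = 1 := hsc _ (by
      rw [hB]
      refine ⟨Subgroup.mem_map_of_mem _ hm, ?_⟩
      show Matrix.GeneralLinearGroup.det (prB M (n * y * n⁻¹ * y⁻¹)) = 1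
      simp [map_mul, map_inv, mul_comm, mul_left_comm])
    rw [map_mul, map_mul, map_mul, map_inv, map_inv, mul_inv_eq_one, mul_inv_eq_iff_eq_mul] at h1
    exact h1
  obtain ⟨d1, d2⟩ := diag_of_comm_smul (c := 1) (z := prB M n) ν.pow5 ν.ne_one (by
    rw [one_smul, ← prB_tQ h, ← Units.val_mul, ← Units.val_mul, hcomm])
  obtain ⟨l, hl⟩ : ∃ l, l = (prB M n : M2) 0 0 := ⟨_, rfl⟩
  have hnv : (prB M n : M2) = l • (1 : M2) := by
    have e := congrArg (fun g : GL (Fin 2) F => (g : M2) 0 1) (hcomm (tW h))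
    rw [Units.val_mul, Units.val_mul, prB_tW] at e
    simp [Matrix.mul_apply, Matrix.vecMul, dotProduct, Fin.sum_univ_two, d1, d2] at e
    ext i j
    fin_cases i <;> fin_cases j <;> simp [d1, d2, hl, ← e]
  have hl5 : l ^ 5 = 1 := by
    have h1 := det_pow_five C (prB_mem h n)
    rw [hnv, Matrix.det_smul, Matrix.det_one, mul_one, Fintype.card_fin] at h1
    have h0 : (l ^ 5 + 1) * (l ^ 5 + 1) = 0 := by linear_combination h1 + (l ^ 5 + 1) * ν.two
    linear_combination mul_self_eq_zero.1 h0 - ν.two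
  obtain ⟨Z, hZ⟩ : ∃ Z : G5, Z = gD ν * gS * (gD ν)⁻¹ * gS⁻¹ := ⟨_, rfl⟩
  have hZv : (Z : M5) = ν.μ • (1 : M5) := by
    have e : (gD ν * gS : G5) = (Matrix.GeneralLinearGroup.mkOfDetNeZero (ν.μ • (1 : M5)) (by
        rw [Matrix.det_smul, Matrix.det_one, mul_one, Fintype.card_fin, ν.pow5]; exact one_ne_zero)) * (gS * gD ν) := by
      refine Units.ext ?_
      show dm ν.μ * sm = ν.μ • (1 : M5) * (sm * dm ν.μ)
      ext i j
      fin_cases i <;> fin_cases j <;>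
        simp [dm, sm, Matrix.mul_apply, Matrix.vecMul, dotProduct, Matrix.diagonal_apply, Fin.sum_univ_five] <;>
        grind [ν.pow5]
    rw [hZ, e, mul_assoc, mul_assoc, mul_assoc gS, mul_inv_cancel_left, mul_inv_cancel, mul_one]
    rfl
  have hZM : Z ∈ M := hZ ▸ mul_mem (mul_mem (mul_mem h.memD h.memS) (inv_mem h.memD)) (inv_mem h.memS)
  haveI : Fact (Nat.Prime 5) := ⟨by norm_num⟩
  have hprim : IsPrimitiveRoot ν.μ 5 := by
    rw [← orderOf_eq_prime ν.pow5 ν.ne_one]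
    exact IsPrimitiveRoot.orderOf _
  obtain ⟨i, -, hi⟩ := hprim.eq_pow_of_pow_eq_one hl5
  have hzv : ((Z ^ i : G5) : M5) = l • (1 : M5) := by
    rw [Units.val_pow_eq_pow_val, hZv, smul_pow, one_pow, hi]
  obtain ⟨z, hz⟩ : ∃ z : Dt M, (z : G5) = Z ^ i := ⟨⟨Z ^ i, mem_Dt.2 ⟨pow_mem hZM i, Units.ext (by
    rw [Units.val_mul, Units.val_mul, hzv, Matrix.smul_mul, Matrix.mul_smul, one_mul, mul_one])⟩⟩, rfl⟩
  have hzB : prB M z = prB M n := Units.ext (by
    rw [hnv, val_prB, hz, hzv]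
    ext p r
    fin_cases p <;> fin_cases r <;> simp [Bm])
  refine ⟨l, ?_⟩
  rcases ker_cases h (show prB M (n * z⁻¹) = 1 by rw [map_mul, map_inv, hzB, mul_inv_cancel]) with e | e
  · rw [mul_inv_eq_one] at e
    rw [e, hz, hzv]
  · exfalso
    have he : (n : G5) = gT * (z : G5) := by
      rw [← mul_inv_eq_iff_eq_mul]
      exact e
    have hnm : (n : G5) ^ Nat.card N = 1 := by
      have h1 : (⟨n, hn⟩ : N) ^ Nat.card N = 1 := pow_card_eq_one'
      exact congrArg (fun x : N => (((x : Dt M)) : G5)) h1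
    rw [he, (show Commute (gT : G5) (z : G5) from (mem_Dt.1 z.2).2.symm).mul_pow, hz] at hnm
    obtain ⟨r, hr⟩ := hodd
    rw [hr, pow_succ _ (2 * r), pow_mul, pow_two, gT_sq, one_pow, one_mul, mul_eq_one_iff_eq_inv] at hnm
    have hT := congrArg Units.val hnm
    rw [val_gT, ← inv_pow, ← inv_pow, Units.val_pow_eq_pow_val, Units.val_pow_eq_pow_val,
      show ((Z⁻¹ : G5) : M5) = ν.μ ^ 4 • (1 : M5) from left_inv_eq_right_inv (Units.inv_mul Z) (by
        rw [hZv, Matrix.smul_mul, one_mul, smul_smul, ← pow_succ', ν.pow5, one_smul])] at hT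
    have := congrFun (congrFun hT 1) 4
    simp [tm, smul_pow, one_pow] at this

end CfsgLib.Perm.Trans.UnitFive.Pauli.Four
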