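import Cfsg.Agent.Lib.Perm.Trans.UnitFive.Pauli.Four.Base
import Cfsg.Agent.Lib.Perm.Trans.UnitFive.Pauli.Dich
import Cfsg.Agent.Lib.Perm.Trans.UnitFive.Pauli.Trans

/-!
# The centraliser of the phase for `q = 4`: both pairs are monomial
-/

set_option autoImplicit false
set_option linter.all false

namespace CfsgLib.Perm.Trans.UnitFive.Pauli.Four

open scoped Matrix
open Matrix Cfsg.Geo CfsgLib.Perm.Asch CfsgLib.Perm.Trans CfsgLib.Perm.Trans.FiveDim.Pauli
open CfsgLib.Perm.Trans.UnitFive.Pauli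

variable {F : Type*} [Field F] [Fintype F]

local notation "M2" => Matrix (Fin 2) (Fin 2) F
local notation "M5" => Matrix (Fin 5) (Fin 5) F
local notation "G5" => GL (Fin 5) F

theorem single_mem_of_invariant (ν : Four F) (W : Submodule F (Fin 5 → F))
    (hD : ∀ w ∈ W, (gD ν : M5) *ᵥ w ∈ W) {w : Fin 5 → F} (hw : w ∈ W) (i : Fin 5) :
    (5 * w i) • (Pi.single i 1 : Fin 5 → F) ∈ W := by
  have hk : ∀ k : ℕ, (fun j : Fin 5 => (ν.μ ^ (j : ℕ)) ^ k * w j) ∈ W := fun k => by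
    induction k with
    | zero => simpa using hw
    | succ k ih =>
      convert hD _ ih using 1
      funext j
      rw [val_gD, dm, Matrix.mulVec_diagonal]
      fin_cases j <;> simp [pow_succ] <;> ring
  have h := W.sum_mem (t := Finset.range 5) fun k _ => W.smul_mem (ν.μ ^ ((5 - (i : ℕ)) * k)) (hk k)
  convert h using 1
  funext j
  simp only [Finset.sum_apply, Pi.smul_apply, smul_eq_mul]
  rw [show (∑ k ∈ Finset.range 5, ν.μ ^ ((5 - (i : ℕ)) * k) * ((ν.μ ^ (j : ℕ)) ^ k * w j)) =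
      (∑ k ∈ Finset.range 5, (ν.μ ^ (5 - (i : ℕ) + (j : ℕ))) ^ k) * w j by
    rw [Finset.sum_mul]
    refine Finset.sum_congr rfl fun k _ => ?_
    rw [← pow_mul, ← mul_assoc, ← pow_add, ← pow_mul, add_mul]]
  rcases eq_or_ne j i with rfl | hne
  · rw [Nat.sub_add_cancel (Nat.le_of_lt j.isLt), ν.pow5]
    simp
  · have h1 : ν.μ ^ (5 - (i : ℕ) + (j : ℕ)) ≠ 1 := ν.pow_ne_one (by
      have := i.isLt; have := j.isLt; have := Fin.val_ne_of_ne hne; omega)
    rw [geom_sum_eq h1, ← pow_mul, mul_comm _ 5, pow_mul, ν.pow5, one_pow, sub_self, zero_div, zero_mul]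
    simp [hne]

/-- the frame acts irreducibly -/
theorem irreducible_of_frame (ν : Four F) (W : Submodule F (Fin 5 → F))
    (hD : ∀ w ∈ W, (gD ν : M5) *ᵥ w ∈ W) (hS : ∀ w ∈ W, ((gS : G5) : M5) *ᵥ w ∈ W) : W = ⊥ ∨ W = ⊤ := by
  by_cases h0 : W = ⊥
  · exact Or.inl h0
  obtain ⟨w, hw, hw0⟩ := Submodule.exists_mem_ne_zero_of_ne_bot h0
  obtain ⟨i, hi⟩ := Function.ne_iff.1 hw0
  have hs : ∀ j : Fin 5, Pi.single j (1 : F) ∈ W → Pi.single (j + 1) (1 : F) ∈ W := fun j hj => by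
    convert hS _ hj using 1
    rw [val_gS, Matrix.mulVec_single_one]
    funext k
    fin_cases j <;> fin_cases k <;> simp [sm, Matrix.col]
  have h1 : Pi.single i (1 : F) ∈ W :=
    (Submodule.smul_mem_iff _ (mul_ne_zero ν.five hi)).1 (single_mem_of_invariant ν W hD hw i)
  have hall : ∀ d : Fin 5, Pi.single (i + d) (1 : F) ∈ W := by
    have e1 := hs _ h1
    have e2 := hs _ e1
    have e3 := hs _ e2
    have e4 := hs _ e3
    intro d
    fin_cases d
    · simpa using h1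
    · exact e1
    · simpa [add_assoc] using e2
    · simpa [add_assoc] using e3
    · simpa [add_assoc] using e4
  refine Or.inr (eq_top_iff.2 fun v _ => ?_)
  rw [pi_eq_sum_univ v]
  refine W.sum_mem fun j _ => W.smul_mem _ ?_
  have h := hall (j - i)
  rw [add_sub_cancel] at h
  convert h using 1
  funext k
  simp [Pi.single_apply, eq_comm]

variable {ν : Four F} {M : Subgroup (GL (Fin 5) F)}

theorem comm_qd_of_blocked (c : F) {g : M5} (hb : Blocked g) : g * qd c = qd c * g := by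
  obtain ⟨b1, b2, b3, b4, b5, b6, b7, b8, b9, c1, c2, c3, c4, c5, c6, c7⟩ := hb
  ext i j
  rw [qd, Matrix.mul_diagonal, Matrix.diagonal_mul]
  fin_cases i <;> fin_cases j <;> simp [*] <;> ring

theorem mem_Cq_of_blocked {g : G5} (hg : g ∈ M) (hb : Blocked (g : M5)) : g ∈ Cq ν M :=
  mem_Cq.2 ⟨hg, Units.ext (by rw [Units.val_mul, Units.val_mul, val_gQ, comm_qd_of_blocked _ hb])⟩

/-- `D` in the centraliser of the phase -/
def cD (h : Ctx ν M) : Cq ν M :=
  ⟨gD ν, mem_Cq.2 ⟨h.memD, Units.ext (by rw [Units.val_mul, Units.val_mul, val_gD, val_gQ, qd_comm_dm])⟩⟩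

/-- `T` in the centraliser of the phase -/
def cT (h : Ctx ν M) : Cq ν M :=
  ⟨gT, mem_Cq.2 ⟨h.memT, Units.ext (by rw [Units.val_mul, Units.val_mul, val_gT, val_gQ, comm_of_sym (sym_qd _)])⟩⟩

theorem pr1_cD (h : Ctx ν M) : (pr1 ν M (cD h) : M2) = Matrix.diagonal ![ν.μ, ν.μ ^ 4] := by
  rw [val_pr1]
  ext i j
  fin_cases i <;> fin_cases j <;> simp [p1, cD, val_gD, dm]

theorem pr2_cD (h : Ctx ν M) : (pr2 ν M (cD h) : M2) = Matrix.diagonal ![ν.μ ^ 2, ν.μ ^ 3] := by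
  rw [val_pr2]
  ext i j
  fin_cases i <;> fin_cases j <;> simp [p2, cD, val_gD, dm]

theorem pr1_cT (h : Ctx ν M) : (pr1 ν M (cT h) : M2) = !![0, 1; 1, 0] := by
  rw [val_pr1]
  ext i j
  fin_cases i <;> fin_cases j <;> simp [p1, cT, val_gT, tm]

theorem pr2_cT (h : Ctx ν M) : (pr2 ν M (cT h) : M2) = !![0, 1; 1, 0] := by
  rw [val_pr2]
  ext i j
  fin_cases i <;> fin_cases j <;> simp [p2, cT, val_gT, tm]

/-- conjugation by `W` exchanges the pairs -/
theorem exists_swap (h : Ctx ν M) (g : Cq ν M) : ∃ k : Cq ν M,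
    p2 ((k : G5) : M5) = p1 ((g : G5) : M5) ∧
      p1 ((k : G5) : M5) = !![((g : G5) : M5) 3 3, ((g : G5) : M5) 3 2; ((g : G5) : M5) 2 3, ((g : G5) : M5) 2 2] := by
  obtain ⟨x, hx⟩ : ∃ x : G5, x = gW * (g : G5) * gW⁻¹ := ⟨_, rfl⟩
  have hxM : x ∈ M := hx ▸ mul_mem (mul_mem h.memW (mem_Cq.1 g.2).1) (inv_mem h.memW)
  have e : (x : M5) * wm = wm * ((g : G5) : M5) := by
    rw [← val_gW, ← Units.val_mul, ← Units.val_mul, hx, inv_mul_cancel_right]
  have E := wm_conj e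
  have hxb : Blocked (x : M5) := by
    obtain ⟨b1, b2, b3, b4, b5, b6, b7, b8, b9, c1, c2, c3, c4, c5, c6, c7⟩ := blocked_Cq g
    exact ⟨(E 0 3).trans b3, (E 0 1).trans b1, (E 0 4).trans b4, (E 0 2).trans b2, (E 3 0).trans b7,
      (E 1 0).trans b5, (E 4 0).trans b8, (E 2 0).trans b6, (E 3 1).trans c6, (E 3 4).trans c7,
      (E 2 1).trans c4, (E 2 4).trans c5, (E 1 3).trans c1, (E 1 2).trans b9, (E 4 3).trans c3,
      (E 4 2).trans c2⟩
  refine ⟨⟨x, mem_Cq_of_blocked hxM hxb⟩, ?_, ?_⟩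
  · ext i j
    fin_cases i <;> fin_cases j
    exacts [E 1 1, E 1 4, E 4 1, E 4 4]
  · ext i j
    fin_cases i <;> fin_cases j
    exacts [E 3 3, E 3 2, E 2 3, E 2 2]

/-- if a scalar on the second pair is not one on the first, the group is everything -/
theorem false_of_split (h : Ctx ν M) (hbig : Big F 4 (pr1 ν M).range) {z : Cq ν M}
    (hz2 : ∃ c : F, p2 ((z : G5) : M5) = c • (1 : M2)) (hz1 : ∀ c : F, p1 ((z : G5) : M5) ≠ c • (1 : M2)) :
    False := by
  classical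
  obtain ⟨C⟩ := CfsgLib.Perm.Trans.Unit.ctx_of_card h.qcase.1
  have hU := CfsgLib.Perm.Trans.Unit.isUnitary_hermForm C (n := 5)
  obtain ⟨K, hK⟩ : ∃ K, K = (pr0 ν M).ker ⊓ (pr2 ν M).ker := ⟨_, rfl⟩
  haveI : K.Normal := hK ▸ inferInstance
  obtain ⟨N, hN⟩ : ∃ N, N = K.map (pr1 ν M) ⊓ specialLinear (Fin 2) F := ⟨_, rfl⟩
  have hNG : N ≤ Cfsg.GU 2 F 4 ⊓ specialLinear (Fin 2) F := by
    subst hN
    rintro _ ⟨⟨k, -, rfl⟩, hd⟩
    exact ⟨pr1_mem h k, hd⟩
  have hcomm : ∀ x : Cq ν M, z * x * z⁻¹ * x⁻¹ ∈ K := fun x => by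
    obtain ⟨c, hc⟩ := hz2
    have h2 : pr2 ν M z * pr2 ν M x = pr2 ν M x * pr2 ν M z := Units.ext (by
      rw [Units.val_mul, Units.val_mul, val_pr2 z, hc, Matrix.smul_mul, Matrix.mul_smul, one_mul, mul_one])
    subst hK
    refine ⟨?_, ?_⟩
    · show pr0 ν M (z * x * z⁻¹ * x⁻¹) = 1
      simp [mul_comm, mul_left_comm]
    · show pr2 ν M (z * x * z⁻¹ * x⁻¹) = 1
      rw [map_mul, map_mul, map_mul, map_inv, map_inv, h2, mul_inv_cancel_right, mul_inv_cancel]
  have hcN : ∀ x : Cq ν M, pr1 ν M (z * x * z⁻¹ * x⁻¹) ∈ N := fun x => by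
    rw [hN]
    refine ⟨Subgroup.mem_map_of_mem _ (hcomm x), ?_⟩
    show Matrix.GeneralLinearGroup.det (pr1 ν M (z * x * z⁻¹ * x⁻¹)) = 1
    simp [map_mul, map_inv, mul_comm, mul_left_comm]
  obtain ⟨n, hn, hns⟩ : ∃ n ∈ N, ∀ c : F, (n : M2) ≠ c • 1 := by
    by_contra hcon
    push Not at hcon
    have hsc : ∀ x : Cq ν M, ∃ c : F,
        (pr1 ν M z : M2) * (pr1 ν M x : M2) = c • ((pr1 ν M x : M2) * (pr1 ν M z : M2)) := fun x => by
      obtain ⟨c, hc⟩ := hcon _ (hcN x)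
      refine ⟨c, ?_⟩
      rw [← Units.val_mul, ← Units.val_mul, ← map_mul, ← map_mul, show z * x = z * x * z⁻¹ * x⁻¹ * (x * z) by group,
        map_mul, Units.val_mul, hc, Matrix.smul_mul, one_mul]
    obtain ⟨c, hc⟩ := hsc (cD h)
    rw [pr1_cD] at hc
    obtain ⟨z01, z10⟩ := diag_of_comm_smul ν.pow5 ν.ne_one hc
    obtain ⟨c, hc⟩ := hsc (cT h)
    rw [pr1_cT] at hc
    have e01 := congrFun (congrFun hc 0) 1
    have e10 := congrFun (congrFun hc 1) 0
    simp [Matrix.mul_apply, Matrix.vecMul, dotProduct, Fin.sum_univ_two, z01, z10] at e01 e10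
    refine hz1 ((pr1 ν M z : M2) 0 0) ?_
    have h01 : (pr1 ν M z : M2) 1 1 = (pr1 ν M z : M2) 0 0 := by
      have hsq : ((pr1 ν M z : M2) 0 0 + (pr1 ν M z : M2) 1 1) ^ 2 = 0 := by
        linear_combination (pr1 ν M z : M2) 0 0 * e01 - (pr1 ν M z : M2) 1 1 * e10 +
          ((pr1 ν M z : M2) 1 1 * (pr1 ν M z : M2) 1 1 + (pr1 ν M z : M2) 0 0 * (pr1 ν M z : M2) 1 1) * ν.two
      linear_combination (pow_eq_zero_iff two_ne_zero).1 hsq - (pr1 ν M z : M2) 0 0 * ν.two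
    rw [← val_pr1]
    ext i j
    fin_cases i <;> fin_cases j <;> simp [z01, z10, h01]
  have hnorm : ∀ s ∈ Cfsg.GU 2 F 4 ⊓ specialLinear (Fin 2) F, ∀ a ∈ N, s * a * s⁻¹ ∈ N := by
    intro s hs a ha
    subst hN
    have hsd : (s : M2).det = 1 := by
      have h1 : Matrix.GeneralLinearGroup.det s = 1 := hs.2
      rw [← Matrix.GeneralLinearGroup.val_det_apply, h1, Units.val_one]
    obtain ⟨_, ⟨x, rfl⟩, l, hl⟩ := hbig s hs.1 hsd
    obtain ⟨⟨k, hk, rfl⟩, had⟩ := ha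
    refine ⟨⟨x * k * x⁻¹, (inferInstance : K.Normal).conj_mem k hk x, ?_⟩, ?_⟩
    · rw [map_mul, map_mul, map_inv, mul_inv_eq_iff_eq_mul]
      refine Units.ext ?_
      simp only [Units.val_mul]
      rw [hl, Matrix.smul_mul, Matrix.mul_smul, mul_assoc, mul_assoc, Units.inv_mul, mul_one]
    · show Matrix.GeneralLinearGroup.det (s * pr1 ν M k * s⁻¹) = 1
      have h1 : Matrix.GeneralLinearGroup.det (pr1 ν M k) = 1 := had
      simp [map_mul, map_inv, h1]
  have hfull := full_of_normalised h.qcase hNG hnorm hn hns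
  obtain ⟨u, hu⟩ : ∃ u : Fin 5 → F, u = ![0, 1, 0, 0, 1] := ⟨_, rfl⟩
  have hform : ∀ w, Cfsg.hermForm 5 F 4 w u = w 1 + w 4 := fun w => by
    simp [hu, Cfsg.hermForm, Fin.sum_univ_five]
  have huu : Cfsg.hermForm 5 F 4 u u = 0 := by
    rw [hform, hu]
    simp
    exact ν.add_self 1
  have hcen : u ∈ CfsgLib.Perm.Trans.Unit.centres hU M := by
    refine ⟨huu, fun c hc => ⟨CfsgLib.Perm.Trans.utv_orth hU huu c, ?_⟩⟩
    obtain ⟨X, hX⟩ : ∃ X : M2, X = !![1 + c, c; c, 1 + c] := ⟨_, rfl⟩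
    have hXd : X.det = 1 := by rw [hX, Matrix.det_fin_two_of]; linear_combination c * ν.two
    obtain ⟨s, hs⟩ : ∃ s : GL (Fin 2) F, (s : M2) = X :=
      ⟨Matrix.GeneralLinearGroup.mkOfDetNeZero X (by rw [hXd]; exact one_ne_zero), rfl⟩
    have hsG : s ∈ Cfsg.GU 2 F 4 ⊓ specialLinear (Fin 2) F := by
      refine ⟨C.mem_gu_iff_mat.2 ?_, ?_⟩
      · rw [hs, hX]
        ext i j
        fin_cases i <;> fin_cases j <;> simp [Matrix.mul_apply, Fin.sum_univ_two, hc, ν.neg_eq] <;>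
          linear_combination (c + c * c) * ν.two
      · show Matrix.GeneralLinearGroup.det s = 1
        rw [Units.ext_iff, Matrix.GeneralLinearGroup.val_det_apply, hs, hXd, Units.val_one]
    have hsN := hfull hsG
    rw [hN] at hsN
    obtain ⟨⟨k, hk, hks⟩, -⟩ := hsN
    rw [hK] at hk
    have hk1 : p1 ((k : G5) : M5) = X := by rw [← val_pr1, hks, hs]
    have hk2 : p2 ((k : G5) : M5) = 1 := by rw [← val_pr2, show pr2 ν M k = 1 from hk.2, Units.val_one]
    have hk0 : ((k : G5) : M5) 0 0 = 1 := by rw [← val_pr0, show pr0 ν M k = 1 from hk.1, Units.val_one]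
    obtain ⟨b1, b2, b3, b4, b5, b6, b7, b8, b9, c1, c2, c3, c4, c5, c6, c7⟩ := blocked_Cq k
    have q11 := congrFun (congrFun hk1 0) 0
    have q14 := congrFun (congrFun hk1 0) 1
    have q41 := congrFun (congrFun hk1 1) 0
    have q44 := congrFun (congrFun hk1 1) 1
    have q22 := congrFun (congrFun hk2 0) 0
    have q23 := congrFun (congrFun hk2 0) 1
    have q32 := congrFun (congrFun hk2 1) 0
    have q33 := congrFun (congrFun hk2 1) 1
    simp [p1, hX] at q11 q14 q41 q44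
    simp [p2] at q22 q23 q32 q33
    have hkt : (tv u (c • CfsgLib.Perm.Trans.hv hU u) (CfsgLib.Perm.Trans.utv_orth hU huu c) : M5) = ((k : G5) : M5) := by
      refine Matrix.ext_of_mulVec_single fun j => ?_
      rw [tv_mulVec, smul_dotProduct, CfsgLib.Perm.Trans.hv_dot, hform, smul_eq_mul]
      ext i
      fin_cases i <;> fin_cases j <;> simp [hu, *] <;> linear_combination c * ν.two
    exact (Units.ext hkt : _ = (k : G5)) ▸ (mem_Cq.1 k.2).1
  have h4 : 4 < Fintype.card F := by rw [h.qcase.1]; norm_num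
  have hu0 : u ≠ 0 := fun e => by simpa [hu] using congrFun e 1
  have hirr : ∀ W : Submodule F (Fin 5 → F),
      (∀ x ∈ M, ∀ w ∈ W, (x : M5) *ᵥ w ∈ W) → W = ⊥ ∨ W = ⊤ := fun W hW =>
    irreducible_of_frame ν W (fun w hw => hW _ h.memD w hw) fun w hw => hW _ h.memS w hw
  refine h.ne (le_antisymm h.le ?_)
  have hle : M ≤ CfsgLib.Perm.Trans.Unit.isoU (Cfsg.hermForm 5 F 4) := fun g hg => (h.le hg).1
  have htop := Unit.centres_top_of_irreducible_group hU hle (Fintype.card_fin 5) h4 hirr hu0 hcen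
  exact Unit.isoU_inf_SL_le hU (fun v _ hv => (htop v hv).2) (Or.inr h4)

theorem pow_five_split {R : Type*} [Monoid R] (x : R) : x ^ 5 = x * x * (x * x) * x := by
  simp only [pow_succ, pow_zero, one_mul, mul_assoc]

theorem norm_one_pow_five (C : CfsgLib.SU.UCtx F 4) {x : F} (hx : x * C.bar x = 1) : x ^ 5 = 1 := by
  rw [C.bar_eq, ← pow_succ'] at hx
  exact hx

/-- determinants in `GU₂(4)` are fifth roots of unity -/
theorem det_pow_five (C : CfsgLib.SU.UCtx F 4) {g : GL (Fin 2) F} (hg : g ∈ Cfsg.GU 2 F 4) :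
    (g : M2).det ^ 5 = 1 := by
  refine norm_one_pow_five C ?_
  have h := congrArg Matrix.det (C.mem_gu_iff_mat.1 hg)
  rw [Matrix.det_mul, Matrix.det_transpose, Matrix.det_one,
    show (g : M2).map C.bar = C.bar.toRingHom.mapMatrix (g : M2) from rfl, ← RingHom.map_det] at h
  exact h

/-- the phase centraliser is not large on the first pair -/
theorem not_big_pr1 (h : Ctx ν M) : ¬ Big F 4 (pr1 ν M).range := by
  classical
  intro hbig
  obtain ⟨C⟩ := CfsgLib.Perm.Trans.Unit.ctx_of_card h.qcase.1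
  obtain ⟨γ, hγe⟩ : ∃ γ, γ = ν.γ1 := ⟨_, rfl⟩
  have h2 := ν.two
  have hγ4 : γ ^ 4 = γ := by
    rw [hγe]
    linear_combination (ν.γ1 * ν.γ1 + ν.γ2) * ν.γ1_sq + ν.γ2_sq
  have hbar : C.bar γ = γ := by rw [C.bar_eq, hγ4]
  obtain ⟨J, hJ⟩ : ∃ J : GL (Fin 2) F, (J : M2) = !![1 + γ, γ; γ, 1 + γ] :=
    ⟨Matrix.GeneralLinearGroup.mkOfDetNeZero !![1 + γ, γ; γ, 1 + γ] (by
      rw [Matrix.det_fin_two_of, show (1 + γ) * (1 + γ) - γ * γ = 1 by linear_combination γ * h2]
      exact one_ne_zero), rfl⟩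
  have hJJ : J * J = 1 := Units.ext (by
    rw [Units.val_mul, hJ, Units.val_one]
    ext i j
    fin_cases i <;> fin_cases j <;> simp [Matrix.mul_apply, Fin.sum_univ_two] <;>
      first | linear_combination (γ * γ + γ) * h2)
  have hJdet : (J : M2).det = 1 := by rw [hJ, Matrix.det_fin_two_of]; linear_combination γ * h2
  obtain ⟨_, ⟨x, rfl⟩, c, hc⟩ := hbig J (C.mem_gu_iff_mat.2 (by
      rw [hJ]
      ext i j
      fin_cases i <;> fin_cases j <;> simp [Matrix.mul_apply, Fin.sum_univ_two, map_add, hbar] <;>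
        linear_combination (γ * γ + γ) * h2)) hJdet
  have hc5 : c ^ 5 = 1 := by
    have h1 := det_pow_five C (pr1_mem h x)
    rw [hc, Matrix.det_smul, hJdet, mul_one, Fintype.card_fin] at h1
    have h0 : (c ^ 5 + 1) * (c ^ 5 + 1) = 0 := by linear_combination h1 + (c ^ 5 + 1) * h2
    linear_combination mul_self_eq_zero.1 h0 - h2
  have hJ5 : (J : M2) ^ 5 = (J : M2) := by
    have e : (J : M2) * (J : M2) = 1 := by rw [← Units.val_mul, hJJ, Units.val_one]
    rw [pow_five_split, e, one_mul, one_mul]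
  have key5 : ∀ z : Cq ν M, (pr1 ν M z : M2) = (J : M2) → (pr1 ν M (z ^ 5) : M2) = (J : M2) := fun z hz => by
    rw [map_pow, Units.val_pow_eq_pow_val, hz, hJ5]
  obtain ⟨g1, hg1⟩ : ∃ g1, g1 = x ^ 5 := ⟨_, rfl⟩
  have h11 : (pr1 ν M g1 : M2) = (J : M2) := by
    rw [hg1, map_pow, Units.val_pow_eq_pow_val, hc, smul_pow, hc5, one_smul, hJ5]
  have h10 : ((g1 : G5) : M5) 0 0 = 1 := by
    rw [← val_pr0, hg1, map_pow, Units.val_pow_eq_pow_val, val_pr0]
    refine norm_one_pow_five C ?_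
    obtain ⟨b1, b2, b3, b4, b5, b6, b7, b8, b9, c1, c2, c3, c4, c5, c6, c7⟩ := blocked_Cq x
    have e := unit_entry C (g := (x : G5)) (h.le (mem_Cq.1 x.2).1).1 0 0
    simp [Fin.sum_univ_five, b5, b6, b7, b8] at e
    exact e
  -- swapping the pairs
  have swap : ∀ z : Cq ν M, (∃ c : F, p1 ((z : G5) : M5) = c • (1 : M2)) →
      (∀ c : F, p2 ((z : G5) : M5) ≠ c • (1 : M2)) → False := fun z hz1 hz2 => by
    obtain ⟨k, hk2, hk1⟩ := exists_swap h z
    refine false_of_split h hbig (z := k) (hk2.symm ▸ hz1) fun c hc => hz2 c ?_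
    rw [hk1] at hc
    have a00 := congrFun (congrFun hc 0) 0
    have a01 := congrFun (congrFun hc 0) 1
    have a10 := congrFun (congrFun hc 1) 0
    have a11 := congrFun (congrFun hc 1) 1
    simp at a00 a01 a10 a11
    ext i j
    fin_cases i <;> fin_cases j <;> simp [p2, a00, a01, a10, a11]
  -- the second pair of `g1` commutes with the swap
  obtain ⟨a, b, hy⟩ : ∃ a b, (pr2 ν M g1 : M2) = !![a, b; b, a] := by
    by_contra hcon
    push Not at hcon
    refine swap (g1 * cT h * g1⁻¹ * (cT h)⁻¹) ⟨1, ?_⟩ fun l hl => ?_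
    · have hcm : pr1 ν M g1 * pr1 ν M (cT h) = pr1 ν M (cT h) * pr1 ν M g1 := Units.ext (by
        rw [Units.val_mul, Units.val_mul, pr1_cT, h11, hJ]
        ext i j
        fin_cases i <;> fin_cases j <;> simp [Matrix.mul_apply, Fin.sum_univ_two])
      rw [← val_pr1, map_mul, map_mul, map_mul, map_inv, map_inv, hcm, mul_inv_cancel_right, mul_inv_cancel,
        Units.val_one, one_smul]
    · have e : (pr2 ν M g1 : M2) * (pr2 ν M (cT h) : M2) = l • ((pr2 ν M (cT h) : M2) * (pr2 ν M g1 : M2)) := by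
        rw [← Units.val_mul, ← Units.val_mul, ← map_mul, ← map_mul,
          show g1 * cT h = g1 * cT h * g1⁻¹ * (cT h)⁻¹ * (cT h * g1) by group, map_mul, Units.val_mul,
          val_pr2 (g1 * cT h * g1⁻¹ * (cT h)⁻¹), hl, Matrix.smul_mul, one_mul]
      rw [pr2_cT] at e
      obtain ⟨y00, y01, y10, y11, hyv⟩ : ∃ y00 y01 y10 y11, (pr2 ν M g1 : M2) = !![y00, y01; y10, y11] :=
        ⟨_, _, _, _, Matrix.eta_fin_two _⟩
      have hdet := Matrix.GeneralLinearGroup.det_ne_zero (pr2 ν M g1)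
      rw [hyv] at e hdet
      rw [Matrix.det_fin_two_of] at hdet
      have e00 := congrFun (congrFun e 0) 0
      have e01 := congrFun (congrFun e 0) 1
      have e10 := congrFun (congrFun e 1) 0
      have e11 := congrFun (congrFun e 1) 1
      simp [Matrix.mul_apply, Matrix.vecMul, dotProduct, Fin.sum_univ_two] at e00 e01 e10 e11
      have hl2 : (l + 1) * (l + 1) = 0 := by
        rcases (not_and_or.1 fun hh : y00 = 0 ∧ y01 = 0 => hdet (by simp [hh.1, hh.2])) with h0 | h0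
        · refine mul_right_cancel₀ h0 (show (l + 1) * (l + 1) * y00 = 0 * y00 from ?_)
          linear_combination (-l) * e10 - e01 + (l + 1) * y00 * h2
        · refine mul_right_cancel₀ h0 (show (l + 1) * (l + 1) * y01 = 0 * y01 from ?_)
          linear_combination (-l) * e11 - e00 + (l + 1) * y01 * h2
      have hl1 : l = 1 := by linear_combination mul_self_eq_zero.1 hl2 - h2
      subst hl1
      refine hcon y00 y01 ?_
      rw [hyv]
      ext i j
      fin_cases i <;> fin_cases j <;> simp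
      · linear_combination -e00
      · linear_combination -e01
  have hab : (a + b) ^ 5 = 1 := by
    have h1 := det_pow_five C (pr2_mem h g1)
    rw [hy, Matrix.det_fin_two_of, show a * a - b * b = (a + b) * (a + b) by linear_combination -(a * b + b * b) * h2] at h1
    have h0 : ((a + b) ^ 5 + 1) * ((a + b) ^ 5 + 1) = 0 := by linear_combination h1 + ((a + b) ^ 5 + 1) * h2
    linear_combination mul_self_eq_zero.1 h0 - h2
  obtain ⟨g, hg⟩ : ∃ g, g = g1 ^ 5 := ⟨_, rfl⟩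
  have g_1 : (pr1 ν M g : M2) = (J : M2) := hg ▸ key5 g1 h11
  obtain ⟨s, hs⟩ : ∃ s, s = (a + b) ^ 4 * b := ⟨_, rfl⟩
  have g_2 : (pr2 ν M g : M2) = !![1 + s, s; s, 1 + s] := by
    have e2 : (!![a, b; b, a] : M2) * !![a, b; b, a] = ((a + b) * (a + b)) • (1 : M2) := by
      ext i j
      fin_cases i <;> fin_cases j <;> simp [Matrix.mul_apply, Fin.sum_univ_two] <;>
        first | linear_combination (-(a * b)) * h2 | linear_combination (a * b) * h2
    rw [hg, map_pow, Units.val_pow_eq_pow_val, hy, pow_five_split, e2, Matrix.smul_mul, one_mul, smul_smul,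
      Matrix.smul_mul, one_mul, show (a + b) * (a + b) * ((a + b) * (a + b)) = (a + b) ^ 4 by ring]
    ext i j
    fin_cases i <;> fin_cases j <;> simp [hs] <;>
      first | ring1 | linear_combination hab - (a + b) ^ 4 * b * h2
  have g_0 : ((g : G5) : M5) 0 0 = 1 := by
    rw [← val_pr0, hg, map_pow, Units.val_pow_eq_pow_val, val_pr0, h10, one_pow]
  have hs4 : s ^ 4 = s := by
    have e := congrFun (congrFun (C.mem_gu_iff_mat.1 (pr2_mem h g)) 0) 1
    rw [g_2, Matrix.mul_apply, Fin.sum_univ_two] at e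
    simp [map_add, C.bar_eq] at e
    linear_combination e - (s ^ 4 * s + s + 2 * s ^ 2 + 3 * s ^ 3 + 2 * s ^ 4) * h2
  have hcases : s = 0 ∨ s = 1 ∨ s = ν.γ1 ∨ s = ν.γ2 := by
    have hz : s * (s - 1) * ((s - ν.γ1) * (s - ν.γ2)) = 0 := by
      linear_combination hs4 - (s ^ 3 - s ^ 2) * ν.γ_add + (s ^ 2 - s) * ν.γ_mul + (s ^ 2 - s ^ 3) * h2
    rcases mul_eq_zero.1 hz with e | e <;> rcases mul_eq_zero.1 e with e | e
    · exact Or.inl e
    · exact Or.inr (Or.inl (sub_eq_zero.1 e))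
    · exact Or.inr (Or.inr (Or.inl (sub_eq_zero.1 e)))
    · exact Or.inr (Or.inr (Or.inr (sub_eq_zero.1 e)))
  rw [val_pr1, hJ, hγe] at g_1
  rw [val_pr2] at g_2
  obtain ⟨hne0, hne1⟩ := ν.γ1_ne
  rcases hcases with rfl | rfl | rfl | rfl
  · refine false_of_split h hbig (z := g) ⟨1, ?_⟩ fun l hl => hne0 ?_
    · rw [g_2]; ext i j; fin_cases i <;> fin_cases j <;> simp
    · rw [g_1] at hl
      simpa using congrFun (congrFun hl 0) 1
  · refine false_of_split h hbig (z := g * cT h) ⟨1, ?_⟩ fun l hl => hne1 ?_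
    · rw [← val_pr2, map_mul, Units.val_mul, val_pr2 g, g_2, pr2_cT]
      ext i j; fin_cases i <;> fin_cases j <;> simp [Matrix.mul_apply, Fin.sum_univ_two] <;> linear_combination h2
    · rw [← val_pr1, map_mul, Units.val_mul, val_pr1 g, g_1, pr1_cT] at hl
      have e := congrFun (congrFun hl 0) 1
      simp [Matrix.mul_apply, Matrix.vecMul, dotProduct, Fin.sum_univ_two] at e
      linear_combination e - h2
  · -- the untwisted case
    obtain ⟨k, hk⟩ : ∃ k, k = cD h * g * (cD h * g) * (cD h * g) := ⟨_, rfl⟩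
    have hne : ν.γ1 * ν.γ1 * ν.μ ^ 2 ≠ 0 := mul_ne_zero (mul_ne_zero hne0 hne0) (pow_ne_zero _ ν.ne_zero)
    refine swap k ⟨1, ?_⟩ fun l hl => hne ?_
    · rw [← val_pr1, hk]
      simp only [map_mul, Units.val_mul]
      rw [val_pr1 g, g_1, pr1_cD, one_smul]
      ext i j
      fin_cases i <;> fin_cases j <;>
        simp [Matrix.mul_apply, Matrix.vecMul, dotProduct, Fin.sum_univ_two, Four.γ1] <;> grind [ν.eq, ν.two]
    · rw [← val_pr2, hk] at hl
      simp only [map_mul, Units.val_mul] at hl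
      rw [val_pr2 g, g_2, pr2_cD] at hl
      have e := congrFun (congrFun hl 0) 1
      simp [Matrix.mul_apply, Matrix.vecMul, dotProduct, Fin.sum_univ_two, Four.γ1] at e ⊢
      grind [ν.eq, ν.two]
  · -- the twisted case
    obtain ⟨b1, b2, b3, b4, b5, b6, b7, b8, b9, c1, c2, c3, c4, c5, c6, c7⟩ := blocked_Cq g
    have q11 := congrFun (congrFun g_1 0) 0
    have q14 := congrFun (congrFun g_1 0) 1
    have q41 := congrFun (congrFun g_1 1) 0
    have q44 := congrFun (congrFun g_1 1) 1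
    have q22 := congrFun (congrFun g_2 0) 0
    have q23 := congrFun (congrFun g_2 0) 1
    have q32 := congrFun (congrFun g_2 1) 0
    have q33 := congrFun (congrFun g_2 1) 1
    simp [p1] at q11 q14 q41 q44
    simp [p2] at q22 q23 q32 q33
    obtain ⟨U, hU⟩ : ∃ U : M5, U = !![1, 0, 0, 0, 0;
        0, 1 + ν.γ1, 0, 0, ν.γ1;
        0, 0, 1 + ν.γ2, ν.γ2, 0;
        0, 0, ν.γ2, 1 + ν.γ2, 0;
        0, ν.γ1, 0, 0, 1 + ν.γ1] := ⟨_, rfl⟩
    have hgU : ((g : G5) : M5) = U := by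
      rw [hU]
      ext i j
      fin_cases i <;> fin_cases j <;> simp [b1, b2, b3, b4, b5, b6, b7, b8, b9, c1, c2, c3, c4, c5, c6, c7, g_0, q11,
        q14, q41, q44, q22, q23, q32, q33]
    obtain ⟨V, hV⟩ : ∃ V : M5, V = !![1, 0, 0, 0, 0;
        0, 1, 1, 1, 0;
        0, 1, 0, 1, 1;
        0, 1, 1, 0, 1;
        0, 0, 1, 1, 1] := ⟨_, rfl⟩
    have hPU : pm ν * U = V * pm ν := by
      rw [hU, hV]
      ext i j
      fin_cases i <;> fin_cases j <;>
        simp [pm, Four.γ1, Four.γ2, Matrix.mul_apply, Matrix.vecMul, dotProduct, Fin.sum_univ_five] <;>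
        grind [ν.eq, ν.two]
    obtain ⟨z, hz⟩ : ∃ z, z = gQ ν * (gP ν * (g : G5) * (gP ν)⁻¹) := ⟨_, rfl⟩
    have hzM : z ∈ M := hz ▸ mul_mem h.memQ (mul_mem (mul_mem h.memP (mem_Cq.1 g.2).1) (inv_mem h.memP))
    have hzv : (z : M5) = qd ν.μ * V := by
      rw [hz, Units.val_mul, Units.val_mul, Units.val_mul, val_gQ, val_gP, hgU, hPU, ← val_gP, mul_assoc V,
        Units.mul_inv, mul_one]
    have h5 := ν.pow5
    have hzp : (z : M5) ^ 5 = !![1, 0, 0, 0, 0; 0, 1, 0, 0, 0; 0, 0, 0, 1, 0; 0, 0, 1, 0, 0; 0, 0, 0, 0, 1] := by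
      rw [pow_five_split, hzv, hV]
      ext i j
      fin_cases i <;> fin_cases j <;>
        simp [qd, Matrix.mul_apply, Matrix.vecMul, dotProduct, Fin.sum_univ_five, Matrix.diagonal_apply] <;>
        grind [ν.eq, ν.two]
    have hb5 : Blocked (((z ^ 5 : G5)) : M5) := by
      rw [Units.val_pow_eq_pow_val, hzp]
      simp [Blocked]
    refine swap ⟨z ^ 5, mem_Cq_of_blocked (pow_mem hzM 5) hb5⟩ ⟨1, ?_⟩ fun l hl => ?_
    · show p1 (((z ^ 5 : G5)) : M5) = _
      rw [Units.val_pow_eq_pow_val, hzp]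
      ext i j; fin_cases i <;> fin_cases j <;> simp [p1]
    · have e : p2 (((z ^ 5 : G5)) : M5) = l • (1 : M2) := hl
      rw [Units.val_pow_eq_pow_val, hzp] at e
      simpa [p2] using congrFun (congrFun e 0) 1

/-- both pairs are monomial -/
theorem mono_pairs (h : Ctx ν M) (g : Cq ν M) : Mono (p1 ((g : G5) : M5)) ∧ Mono (p2 ((g : G5) : M5)) := by
  have key : ∀ k : Cq ν M, Mono (p1 ((k : G5) : M5)) := fun k =>
    mono_of_char_two h.qcase (G := (pr1 ν M).range) (by rintro _ ⟨x, rfl⟩; exact pr1_mem h x) (not_big_pr1 h)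
      (d := pr1 ν M (cD h)) (w := pr1 ν M (cT h)) ⟨_, rfl⟩ ⟨_, rfl⟩ ν.pow5 ν.ne_one (pr1_cD h) ν.two
      (by rw [pr1_cT]; rfl) (by rw [pr1_cT]; rfl) (g := pr1 ν M k) ⟨k, rfl⟩
  refine ⟨key g, ?_⟩
  obtain ⟨k, -, hk1⟩ := exists_swap h g
  have hm := key k
  rw [hk1] at hm
  rcases hm with ⟨x, y⟩ | ⟨x, y⟩
  · exact Or.inl ⟨by simpa [p2] using y, by simpa [p2] using x⟩
  · exact Or.inr ⟨by simpa [p2] using y, by simpa [p2] using x⟩

end CfsgLib.Perm.Trans.UnitFive.Pauli.Four
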